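import Cfsg.Agent.Lib.Helper28.BG12b
import Cfsg.Agent.Lib.Helper14.BG11A
import Cfsg.Agent.S1324
import Cfsg.Agent.S1451
import Cfsg.Agent.S1452
import Cfsg.Agent.S1408

set_option autoImplicit false

namespace Cfsg.Agent.Lib.Helper41.BG124

open Subgroup Cfsg.Agent.Lib.Helper30 Cfsg.Agent.Lib.Helper2 Cfsg.Agent.Lib.Helper68

universe u

variable {G : Type u} [Group G]

theorem coatom_ne_bot (hG : Cfsg.IsMinSimpleOddOrder G) {M : Subgroup G} (hM : IsCoatom M) :
    M ≠ ⊥ := by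
  rintro rfl
  apply hG.2.2.1
  refine ⟨⟨fun a b => ?_⟩⟩
  by_cases ha : a = 1
  · simp [ha]
  have h1 : zpowers a = ⊤ := hM.2 _ (bot_lt_iff_ne_bot.mpr (by simpa using ha))
  have hb : b ∈ zpowers a := h1 ▸ mem_top b
  obtain ⟨k, rfl⟩ := mem_zpowers_iff.mp hb
  exact (Commute.zpow_right (Commute.refl a) k).eq

theorem isNilpotent_of_le' {H K : Subgroup G} (h : H ≤ K) (hK : Group.IsNilpotent K) :
    Group.IsNilpotent H :=
  Group.nilpotent_of_mulEquiv (Subgroup.subgroupOfEquivOfLe h)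

theorem P3 [Finite G] (hG : Cfsg.IsMinSimpleOddOrder G) {M : Subgroup G} (hM : IsCoatom M)
    (hα : Cfsg.alphaCore M = ⊥) :
    Cfsg.RankLE 2 M ∧ Group.IsNilpotent ↥⁅M, M⁆ ∧ Group.IsNilpotent ↥(Cfsg.sigmaCore M) ∧
      Cfsg.sigmaCore M ≠ ⊥ := by
  have hU : UT G := Cfsg.Agent.Lib.Helper28.BG12.ut hG
  have hM1 : M ≠ ⊥ := coatom_ne_bot hG hM
  have h5 := Cfsg.Agent.S1405.result hG M hM
  have hrank : Cfsg.RankLE 2 M := by
    intro q hq
    by_contra hcon
    have hqα : q ∈ Cfsg.alpha M := ⟨hq, hcon⟩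
    have h1 := h5.1.2.2 q hq hqα
    rw [hα, relIndex_bot_left] at h1
    exact h1 (mem_sigma_of_mem_alpha hG hU hM hqα).2.1
  have hsol : Group.IsSolvable M := solvable_of_ne_top hG hM.1
  have hodd : Odd (Nat.card M) := Odd.of_dvd_nat hG.1 (card_subgroup_dvd_card M)
  obtain ⟨hn, -, hH⟩ := Cfsg.Agent.S1451.result (G := M) hodd (Or.inl hrank)
  have hnil : Group.IsNilpotent ↥⁅M, M⁆ := by
    rw [← map_subtype_commutator]
    exact Group.nilpotent_of_mulEquiv
      ((commutator ↥M).equivMapOfInjective M.subtype M.subtype_injective)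
  have hle : Cfsg.sigmaCore M ≤ ⁅M, M⁆ := by
    apply le_of_forall_isSylowIn
    intro p _ hp
    have h50 := Cfsg.Agent.S1350.result hG M hM
    have hpσ : p ∈ Cfsg.sigma M := h50.1.2.1 p Fact.out hp
    obtain ⟨S, hS⟩ := exists_isSylowIn p (Cfsg.sigmaCore M)
    obtain ⟨T, hT, hST⟩ := exists_isSylowIn_ge (hS.le.trans h50.1.1) hS.isPGroup
    exact ⟨S, hS, hST.trans (sylow_le_commutator_of_mem_sigma hG hU hM hpσ hT)⟩
  refine ⟨hrank, hnil, isNilpotent_of_le' hle hnil, ?_⟩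
  -- the largest prime divisor
  have hc1 : Nat.card M ≠ 1 := fun h => hM1 (card_eq_one.mp h)
  have hc0 : Nat.card M ≠ 0 := Nat.card_pos.ne'
  have hne : (Nat.card M).primeFactors.Nonempty := by
    obtain ⟨p, hp, hpd⟩ := Nat.exists_prime_and_dvd hc1
    exact ⟨p, Nat.mem_primeFactors.mpr ⟨hp, hpd, hc0⟩⟩
  set r := (Nat.card M).primeFactors.max' hne with hr
  have hrmem := (Nat.card M).primeFactors.max'_mem hne
  rw [← hr] at hrmem
  obtain ⟨hrp, hrd, -⟩ := Nat.mem_primeFactors.mp hrmem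
  have hmax : ∀ q : ℕ, q.Prime → q ∣ Nat.card M → q ≤ r := fun q hq hqd =>
    (Nat.card M).primeFactors.le_max' q (Nat.mem_primeFactors.mpr ⟨hq, hqd, hc0⟩)
  have : Fact r.Prime := ⟨hrp⟩
  obtain ⟨N, hNc, hN1, hN2⟩ := hH (r - 1)
  have hNn : N.Normal := inferInstance
  have hNp : IsPGroup r N := by
    have hNc0 : Nat.card N ≠ 0 := Nat.card_pos.ne'
    have h1 : ∀ q : ℕ, q.Prime → q ∣ Nat.card N → q = r := by
      intro q hq hqd
      have h2 := (hN1 q hq hqd).2
      have h3 := hmax q hq (hqd.trans (card_subgroup_dvd_card N))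
      omega
    rw [IsPGroup.iff_card]
    exact ⟨_, Nat.eq_prime_pow_of_unique_prime_dvd hNc0 (fun {q} hq hqd => h1 q hq hqd)⟩
  have hNi : ¬ r ∣ N.index := hN2 r hrp ⟨hrp, by have := hrp.pos; omega⟩
  set R := N.map M.subtype with hR
  have hRM : R ≤ M := map_subtype_le N
  have hRp : IsPGroup r R := hNp.map _
  have hRs : IsSylowIn r R M := by
    refine ⟨hRM, hRp, ?_⟩
    have : R.relIndex M = N.index := by
      rw [hR, relIndex, subgroupOf, comap_map_eq_self_of_injective M.subtype_injective]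
    rw [this]
    exact hNi
  have hR1 : R ≠ ⊥ := by
    intro h
    have h1 := hRs.not_dvd
    rw [h, relIndex_bot_left] at h1
    exact h1 hrd
  have hMN : M ≤ normalizer (R : Set G) := by
    intro m hm
    apply mem_normalizer_of_cj_eq
    apply le_antisymm
    · intro x hx
      rw [mem_cj] at hx
      obtain ⟨y, hy, hyx⟩ := mem_map.mp hx
      have h2 := hNn.conj_mem y hy ⟨m, hm⟩
      refine mem_map.mpr ⟨_, h2, ?_⟩
      simp only [Subgroup.subtype_apply, Subgroup.coe_mul, Subgroup.coe_inv] at hyx ⊢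
      rw [hyx]; group
    · intro x hx
      rw [mem_cj]
      obtain ⟨y, hy, rfl⟩ := mem_map.mp hx
      have h2 := hNn.conj_mem y hy ⟨m, hm⟩⁻¹
      refine mem_map.mpr ⟨_, h2, ?_⟩
      simp
  have hNR := normalizer_eq_of_coatom hG hM hR1 hRM hMN
  have hrσ : r ∈ Cfsg.sigma M := mem_sigma_of_normalizer_le hRs hR1 hNR.le
  have hRle := Cfsg.Agent.Lib.Helper28.BG12.isPGroup_le_sigmaCore hG hM hrσ hRM hRp
  intro h
  exact hR1 (le_bot_iff.mp (h ▸ hRle))

end Cfsg.Agent.Lib.Helper41.BG124
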