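import Cfsg.Agent.Lib.Helper28.BG12b
import Cfsg.Agent.Lib.Helper14.BG11A
import Cfsg.Agent.S1324
import Cfsg.Agent.S1451
import Cfsg.Agent.S1452
import Cfsg.Agent.S1408

set_option autoImplicit false

namespace Cfsg.Agent.Lib.Helper41.BG124

open Subgroup Cfsg.Agent.Lib.Helper30 Cfsg.Agent.Lib.Helper2 Cfsg.Agent.Lib.Helper68

universe u

variable {G : Type u} [Group G] [Finite G]

theorem P6 (hG : Cfsg.IsMinSimpleOddOrder G) {M H : Subgroup G} (hM : IsCoatom M)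
    (hH : IsCoatom H) {q : ℕ} (hqM : q ∈ Cfsg.alpha M) (hqH : q ∈ Cfsg.sigma H) :
    ∃ g : G, H = cj g M := by
  have hU : UT G := Cfsg.Agent.Lib.Helper28.BG12.ut hG
  have hqσ : q ∈ Cfsg.sigma M := mem_sigma_of_mem_alpha hG hU hM hqM
  obtain ⟨hqp, hr⟩ := hqM
  have : Fact q.Prime := ⟨hqp⟩
  obtain ⟨E, hEM, hE, hcard⟩ := exists_elementary_of_not_pRankLE hr
  obtain ⟨Q, hQ, hEQ⟩ := exists_isSylowIn_ge hEM (ea_isPGroup hE)
  have hNQ := normalizer_le_of_mem_sigma hqσ hQ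
  obtain ⟨Q', hQ', hNQ'⟩ := exists_sylow_of_mem_sigma hqH
  have hQt := isSylowIn_top_of_normalizer_le hQ hNQ
  have hQt' := isSylowIn_top_of_normalizer_le hQ' hNQ'
  obtain ⟨g, -, hg⟩ := hQt.conj hQt'
  have hQtop : Q ≠ ⊤ := fun h => hM.1 (top_le_iff.mp (h ▸ hQ.le))
  have h1 : ¬ Cfsg.RankLE 1 Q := not_rankLE_of_elementary hqp hEQ hE
    (lt_of_le_of_lt (Nat.pow_le_pow_right hqp.pos (by norm_num)) hcard)
  have h2 : ¬ Cfsg.RankLE 2 Q := not_rankLE_of_elementary hqp hEQ hE hcard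
  have hu := hU Q hQtop h1 (Or.inl h2)
  refine ⟨g, ?_⟩
  have hu' := Cfsg.Agent.Lib.Helper58.BG9.uniq_cj hu g
  exact Cfsg.Agent.Lib.Helper2.uniq_eq hu' (Cfsg.Agent.Lib.Helper58.BG9.isCoatom_cj hM g)
    (cj_mono g hQ.le) hH (hg ▸ hQ'.le)

end Cfsg.Agent.Lib.Helper41.BG124
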