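import Mathlib
import Cfsg.Agent.S4333
import Cfsg.Agent.Lib.Helper12.Subnormal
import Cfsg.Agent.Lib.Helper12.SubnormalRel

set_option autoImplicit false

namespace Cfsg.Agent.Lib.Helper41

open Pointwise Subgroup

variable {G : Type*} [Group G]

/-- `H` is generated by its own conjugates of `T` (internal form): every subgroup containing `T`
and normalized by `H` contains `H`. -/
def NCl (T H : Subgroup G) : Prop :=
  T ≤ H ∧ ∀ N : Subgroup G, T ≤ N → (∀ h ∈ H, ∀ n ∈ N, h * n * h⁻¹ ∈ N) → H ≤ N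

theorem ncl_iff {T H : Subgroup G} (hTH : T ≤ H) :
    NCl T H ↔ normalClosure ((T.subgroupOf H : Subgroup H) : Set H) = ⊤ := by
  constructor
  · rintro ⟨-, h⟩
    set N : Subgroup G := (normalClosure ((T.subgroupOf H : Subgroup H) : Set H)).map H.subtype with hN
    have h1 : T ≤ N := by
      intro t ht
      exact ⟨⟨t, hTH ht⟩, subset_normalClosure (by simpa [mem_subgroupOf] using ht), rfl⟩
    have h2 : ∀ h ∈ H, ∀ n ∈ N, h * n * h⁻¹ ∈ N := by
      rintro h hh _ ⟨n, hn, rfl⟩
      exact ⟨⟨h, hh⟩ * n * ⟨h, hh⟩⁻¹, normalClosure_normal.conj_mem n hn _, by simp⟩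
    have h3 := h N h1 h2
    rw [eq_top_iff]
    intro x _
    obtain ⟨y, hy, hxy⟩ := h3 x.2
    have : y = x := Subtype.ext hxy
    rwa [← this]
  · intro h
    refine ⟨hTH, fun N hTN hN => ?_⟩
    have hnorm : (N.subgroupOf H).Normal := by
      constructor
      intro n hn g
      rw [mem_subgroupOf] at hn ⊢
      simpa using hN g g.2 n hn
    have h1 : normalClosure ((T.subgroupOf H : Subgroup H) : Set H) ≤ N.subgroupOf H := by
      apply normalClosure_le_normal
      intro x hx
      exact hTN hx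
    rw [h, top_le_iff] at h1
    exact subgroupOf_eq_top.1 h1

theorem NCl.refl (T : Subgroup G) : NCl T T := ⟨le_rfl, fun _ h _ => h⟩

theorem NCl.trans {T H H' : Subgroup G} (h1 : NCl T H) (h2 : NCl H H') : NCl T H' := by
  refine ⟨h1.1.trans h2.1, fun N hTN hN => ?_⟩
  exact h2.2 N (h1.2 N hTN (fun h hh => hN h (h2.1 hh))) hN

theorem NCl.sSup {T : Subgroup G} {S : Set (Subgroup G)} (hne : S.Nonempty)
    (hS : ∀ H ∈ S, NCl T H) : NCl T (sSup S) := by
  obtain ⟨H0, hH0⟩ := hne
  refine ⟨(hS H0 hH0).1.trans (le_sSup hH0), fun N hTN hN => ?_⟩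
  apply sSup_le
  intro H hH
  exact (hS H hH).2 N hTN (fun h hh => hN h (le_sSup hH hh))

theorem NCl.smul {T H : Subgroup G} (h : NCl T H) (g : G) :
    NCl (MulAut.conj g • T) (MulAut.conj g • H) := by
  refine ⟨pointwise_smul_le_pointwise_smul_iff.2 h.1, fun N hTN hN => ?_⟩
  rw [pointwise_smul_subset_iff] at hTN ⊢
  apply h.2 _ hTN
  intro x hx n hn
  rw [mem_inv_pointwise_smul_iff] at hn ⊢
  have h1 := hN (MulAut.conj g • x) (smul_mem_pointwise_smul _ _ _ hx) _ hn
  simpa [MulAut.smul_def, mul_assoc] using h1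

/-- A subgroup generated by its conjugates of `B` lies in every subnormal subgroup containing `B`. -/
theorem NCl.le_of_sn {B H L S : Subgroup G} (h : NCl B H) (hHL : H ≤ L) (hBS : B ≤ S)
    (hS : (S.subgroupOf L).IsSubnormal) : H ≤ S := by
  have key : ∀ S' : Subgroup L, S'.IsSubnormal → B.subgroupOf L ≤ S' → H.subgroupOf L ≤ S' := by
    intro S' hS'
    induction hS' with
    | top => intro _; exact le_top
    | step S' K' hle hK hN ih =>
      intro hB
      have hHK := ih (hB.trans hle)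
      have h1 : H ≤ S'.map L.subtype := by
        apply h.2
        · intro b hb
          exact ⟨⟨b, hHL (h.1 hb)⟩, hB (by simpa [mem_subgroupOf] using hb), rfl⟩
        · rintro x hx _ ⟨n, hn, rfl⟩
          have hxK : (⟨x, hHL hx⟩ : L) ∈ K' := hHK (by simpa [mem_subgroupOf] using hx)
          have h2 := hN.conj_mem ⟨n, hle hn⟩ (by simpa [mem_subgroupOf] using hn) ⟨_, hxK⟩
          rw [mem_subgroupOf] at h2
          exact ⟨_, h2, by simp⟩
      intro x hx
      obtain ⟨y, hy, hxy⟩ := h1 hx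
      have : y = x := Subtype.ext hxy
      rwa [← this]
  have h1 := key _ hS (fun x hx => hBS hx)
  intro x hx
  exact h1 (show (⟨x, hHL hx⟩ : L) ∈ H.subgroupOf L by simpa [mem_subgroupOf] using hx)

/-- Existence of the subnormal closure. -/
theorem exists_ncl_sn [Finite G] (B : Subgroup G) : ∀ (n : ℕ) (L : Subgroup G), Nat.card L = n →
    B ≤ L → ∃ H, NCl B H ∧ H ≤ L ∧ (H.subgroupOf L).IsSubnormal := by
  intro n
  induction n using Nat.strong_induction_on with
  | _ n ih =>
    intro L hn hBL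
    by_cases hL : NCl B L
    · exact ⟨L, hL, le_rfl, by rw [subgroupOf_self]; exact IsSubnormal.top⟩
    · have : ∃ N : Subgroup G, B ≤ N ∧ (∀ h ∈ L, ∀ n ∈ N, h * n * h⁻¹ ∈ N) ∧ ¬ L ≤ N := by
        by_contra hcon
        push Not at hcon
        exact hL ⟨hBL, hcon⟩
      obtain ⟨N, hBN, hN, hLN⟩ := this
      have hlt : N ⊓ L < L := lt_of_le_of_ne inf_le_right (fun h => hLN (h ▸ inf_le_left))
      have hcard : Nat.card (N ⊓ L : Subgroup G) < n := by
        rw [← hn]
        exact Set.ncard_lt_ncard (s := ((N ⊓ L : Subgroup G) : Set G)) (t := (L : Set G))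
          (by exact_mod_cast hlt) (Set.toFinite _)
      obtain ⟨H, h1, h2, h3⟩ := ih _ hcard (N ⊓ L) rfl (le_inf hBN hBL)
      refine ⟨H, h1, h2.trans inf_le_right, ?_⟩
      have hnorm : ((N ⊓ L).subgroupOf L).Normal := by
        constructor
        intro n hn g
        rw [mem_subgroupOf] at hn ⊢
        refine ⟨by simpa using hN g g.2 n hn.1, (g * n * g⁻¹).2⟩
      exact IsSubnormal.trans (fun x hx => h2 hx)
        (Cfsg.Agent.S4333.rel_transfer inf_le_right h3) hnorm.isSubnormal

end Cfsg.Agent.Lib.Helper41
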