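import Mathlib
import Cfsg.Agent.Lib.Helper41.GenZipA

set_option autoImplicit false

namespace Cfsg.Agent.Lib.Helper41

open Pointwise Subgroup
open Cfsg.Agent.Lib.Helper12 (mem_normalizer_iff_smul card_conj_smul isSubnormal_sup
  exists_normalizes_sSup_rel)

variable {G : Type*} [Group G]

theorem conj_smul_eq_top {g : G} {T : Subgroup G} : MulAut.conj g • T = ⊤ ↔ T = ⊤ := by
  constructor
  · intro h
    rw [eq_top_iff]
    intro x _
    have : MulAut.conj g • x ∈ MulAut.conj g • T := by rw [h]; trivial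
    exact (smul_mem_pointwise_smul_iff).1 this
  · rintro rfl
    rw [eq_top_iff]
    intro x _
    rw [mem_pointwise_smul_iff_inv_smul_mem]
    trivial

/-- conjugation as an order isomorphism of the subgroup lattice. -/
def conjOrderIso (g : G) : Subgroup G ≃o Subgroup G where
  toEquiv := MulAction.toPerm (MulAut.conj g)
  map_rel_iff' := pointwise_smul_le_pointwise_smul_iff

theorem isCoatom_conj_smul {M : Subgroup G} (hM : IsCoatom M) (g : G) :
    IsCoatom (MulAut.conj g • M) :=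
  ((conjOrderIso g).isCoatom_iff M).2 hM

theorem conj_inv_smul_smul (g : G) (T : Subgroup G) :
    MulAut.conj g⁻¹ • MulAut.conj g • T = T := by
  rw [map_inv, inv_smul_smul]

theorem conj_smul_inv_smul (g : G) (T : Subgroup G) :
    MulAut.conj g • MulAut.conj g⁻¹ • T = T := by
  rw [map_inv, smul_inv_smul]

theorem card_lt_of_lt [Finite G] {A B : Subgroup G} (h : A < B) : Nat.card A < Nat.card B :=
  Set.ncard_lt_ncard (s := (A : Set G)) (t := (B : Set G)) (by exact_mod_cast h) (Set.toFinite _)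

theorem exists_coatom_ge [Finite G] {H : Subgroup G} (h : H ≠ ⊤) :
    ∃ M : Subgroup G, IsCoatom M ∧ H ≤ M :=
  (eq_top_or_exists_le_coatom H).resolve_left h

theorem IsCoatom_eq_of_le {M M' : Subgroup G} (hM : IsCoatom M) (hM' : IsCoatom M')
    (h : M ≤ M') : M = M' :=
  ((hM.le_iff.1 h).resolve_left hM'.1).symm

/-- the proper subgroups generated by their own conjugates of `T`. -/
def HH (T : Subgroup G) : Set (Subgroup G) := {H | NCl T H ∧ H ≠ ⊤}

/-- their join. -/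
def YY (T : Subgroup G) : Subgroup G := sSup (HH T)

/-- a counterexample to the generalized zipper lemma. -/
def Bad (T : Subgroup G) : Prop :=
  T ≠ ⊤ ∧ normalClosure (T : Set G) = ⊤ ∧ YY T ≠ ⊤ ∧ ¬ ∃! M : Subgroup G, IsCoatom M ∧ T ≤ M

theorem self_mem_HH {T : Subgroup G} (hT : T ≠ ⊤) : T ∈ HH T := ⟨NCl.refl T, hT⟩

theorem le_YY {T : Subgroup G} (hT : T ≠ ⊤) : T ≤ YY T := le_sSup (self_mem_HH hT)

theorem ncl_YY {T : Subgroup G} (hT : T ≠ ⊤) : NCl T (YY T) :=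
  NCl.sSup ⟨T, self_mem_HH hT⟩ (fun _ hH => hH.1)

theorem YY_smul_le (T : Subgroup G) (g : G) : YY (MulAut.conj g • T) ≤ MulAut.conj g • YY T := by
  apply sSup_le
  rintro H ⟨h1, h2⟩
  have h3 := h1.smul g⁻¹
  rw [conj_inv_smul_smul] at h3
  have h4 : MulAut.conj g⁻¹ • H ≤ YY T := le_sSup ⟨h3, fun h => h2 (conj_smul_eq_top.1 h)⟩
  rw [subset_pointwise_smul_iff, ← map_inv]
  exact h4

theorem Bad.smul {T : Subgroup G} (h : Bad T) (g : G) : Bad (MulAut.conj g • T) := by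
  obtain ⟨h1, h2, h3, h4⟩ := h
  refine ⟨fun h => h1 (conj_smul_eq_top.1 h), ?_, ?_, ?_⟩
  · rw [eq_top_iff, ← h2]
    apply normalClosure_le_normal
    intro t ht
    have h5 : MulAut.conj g • t ∈ normalClosure ((MulAut.conj g • T : Subgroup G) : Set G) :=
      subset_normalClosure (smul_mem_pointwise_smul _ _ _ ht)
    have h6 := normalClosure_normal.conj_mem _ h5 g⁻¹
    simpa [MulAut.smul_def, mul_assoc] using h6
  · intro h
    apply h3
    have := YY_smul_le T g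
    rw [h, top_le_iff] at this
    exact conj_smul_eq_top.1 this
  · rintro ⟨M, ⟨hM1, hM2⟩, hM3⟩
    apply h4
    refine ⟨MulAut.conj g⁻¹ • M, ⟨isCoatom_conj_smul hM1 _, ?_⟩, ?_⟩
    · rw [map_inv, subset_pointwise_smul_iff, inv_inv]
      exact hM2
    · rintro M' ⟨hM'1, hM'2⟩
      have := hM3 (MulAut.conj g • M') ⟨isCoatom_conj_smul hM'1 _,
        pointwise_smul_le_pointwise_smul_iff.2 hM'2⟩
      rw [← this, conj_inv_smul_smul]

/-- `M` is a maximal subgroup containing `YY T`. -/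
def IsM (T M : Subgroup G) : Prop := IsCoatom M ∧ YY T ≤ M

theorem IsM.smul {T M : Subgroup G} (h : IsM T M) (g : G) :
    IsM (MulAut.conj g • T) (MulAut.conj g • M) :=
  ⟨isCoatom_conj_smul h.1 g,
    (YY_smul_le T g).trans (pointwise_smul_le_pointwise_smul_iff.2 h.2)⟩

theorem IsM.le {T M : Subgroup G} (h : IsM T M) (hT : Bad T) : T ≤ M := (le_YY hT.1).trans h.2

theorem Bad.not_normal_of_le {T M : Subgroup G} (hT : Bad T) (hTM : T ≤ M) (hM : M ≠ ⊤) :
    ¬ M.Normal := by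
  intro hn
  apply hM
  rw [eq_top_iff, ← hT.2.1]
  exact normalClosure_le_normal hTM

theorem exists_isM [Finite G] {T : Subgroup G} (hT : Bad T) : ∃ M, IsM T M :=
  exists_coatom_ge hT.2.2.1

theorem yy_ne_self [Finite G] {T : Subgroup G} (hT : Bad T) : YY T ≠ T := by
  intro h
  have hprop : ∀ V : Subgroup G, T ≤ V → V ≠ ⊤ → (T.subgroupOf V).IsSubnormal := by
    intro V hTV hV
    obtain ⟨H, h1, h2, h3⟩ := exists_ncl_sn T _ V rfl hTV
    have h4 : H ≤ YY T := le_sSup ⟨h1, fun h => hV (top_le_iff.1 (h ▸ h2))⟩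
    rw [h] at h4
    have : H = T := le_antisymm h4 h1.1
    rwa [this] at h3
  have hnot : ¬ T.IsSubnormal := by
    intro hsn
    obtain ⟨K, hK1, hK2, hK3⟩ := hsn.exists_normal_and_le_and_lt_top_of_ne hT.1
    exact hT.not_normal_of_le hK2 hK3.ne hK1
  obtain ⟨M, hM1, hM2, hM3⟩ := Cfsg.Agent.S4333.zipper T hnot hprop
  apply hT.2.2.2
  have hMc : IsCoatom M := by
    refine ⟨hM2, fun b hb => ?_⟩
    by_contra hbt
    exact absurd (hM3 b (hM1.trans hb.le) hbt) (not_le_of_gt hb)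
  refine ⟨M, ⟨hMc, hM1⟩, ?_⟩
  rintro M' ⟨h1, h2⟩
  exact IsCoatom_eq_of_le h1 hMc (hM3 M' h2 h1.1)

section IH

variable [Finite G] {a : ℕ}

theorem uniq_of_HH (IH : ∀ B : Subgroup G, a < Nat.card B → ¬ Bad B) {T H : Subgroup G}
    (hT : Bad T) (hc : Nat.card T = a) (hH : H ∈ HH T) (hne : H ≠ T) :
    ∃! M : Subgroup G, IsCoatom M ∧ H ≤ M := by
  by_contra hcon
  have hlt : T < H := lt_of_le_of_ne hH.1.1 (Ne.symm hne)
  refine IH H (hc ▸ card_lt_of_lt hlt) ⟨hH.2, ?_, ?_, hcon⟩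
  · rw [eq_top_iff, ← hT.2.1]
    exact normalClosure_mono hH.1.1
  · intro h
    apply hT.2.2.1
    rw [eq_top_iff, ← h]
    apply sSup_le_sSup
    rintro H' ⟨h1, h2⟩
    exact ⟨hH.1.trans h1, h2⟩

theorem isM_unique (IH : ∀ B : Subgroup G, a < Nat.card B → ¬ Bad B) {T M M' : Subgroup G}
    (hT : Bad T) (hc : Nat.card T = a) (h1 : IsM T M) (h2 : IsM T M') : M = M' :=
  (uniq_of_HH IH hT hc ⟨ncl_YY hT.1, hT.2.2.1⟩ (yy_ne_self hT)).unique h1 h2

theorem sn_of_ne (IH : ∀ B : Subgroup G, a < Nat.card B → ¬ Bad B) {T M L : Subgroup G}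
    (hT : Bad T) (hc : Nat.card T = a) (hM : IsM T M) (hL : IsCoatom L) (hTL : T ≤ L)
    (hne : L ≠ M) : (T.subgroupOf L).IsSubnormal := by
  obtain ⟨H, h1, h2, h3⟩ := exists_ncl_sn T _ L rfl hTL
  have hH : H ∈ HH T := ⟨h1, fun h => hL.1 (top_le_iff.1 (h ▸ h2))⟩
  by_cases hHT : H = T
  · rwa [hHT] at h3
  · exact absurd ((uniq_of_HH IH hT hc hH hHT).unique ⟨hL, h2⟩ ⟨hM.1, (le_sSup hH).trans hM.2⟩) hne

theorem not_sn {T M : Subgroup G} (hT : Bad T) (hM : IsM T M) :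
    ¬ (T.subgroupOf M).IsSubnormal := by
  intro h
  have := (ncl_YY hT.1).le_of_sn hM.2 le_rfl h
  exact yy_ne_self hT (le_antisymm this (le_YY hT.1))

theorem normalizer_coatom {T M : Subgroup G} (hT : Bad T) (hM : IsCoatom M) (hTM : T ≤ M) :
    normalizer (M : Set G) = M := by
  rcases hM.le_iff.1 (le_normalizer (H := M)) with h | h
  · exact absurd (normalizer_eq_top_iff.1 h) (hT.not_normal_of_le hTM hM.1)
  · exact h

theorem normalizer_le_isM (IH : ∀ B : Subgroup G, a < Nat.card B → ¬ Bad B) {T M : Subgroup G}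
    (hT : Bad T) (hc : Nat.card T = a) (hM : IsM T M) : normalizer (T : Set G) ≤ M := by
  intro n hn
  rw [mem_normalizer_iff_smul] at hn
  have h1 := hM.smul n
  rw [hn] at h1
  have h2 := isM_unique IH hT hc h1 hM
  rw [← mem_normalizer_iff_smul, normalizer_coatom hT hM.1 (hM.le hT)] at h2
  exact h2

theorem pair_aux (IH : ∀ B : Subgroup G, a < Nat.card B → ¬ Bad B)
    {T₁ T₂ M₁ M₂ L L' : Subgroup G} (h1 : Bad T₁) (c1 : Nat.card T₁ = a) (h2 : Bad T₂)
    (c2 : Nat.card T₂ = a) (hne : T₁ ≠ T₂) (hM1 : IsM T₁ M₁) (hM2 : IsM T₂ M₂)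
    (hL : IsCoatom L) (hL' : IsCoatom L') (hLL : L ≠ L') (h1L : T₁ ≤ L) (h2L : T₂ ≤ L)
    (h1L' : T₁ ≤ L') (h2L' : T₂ ≤ L') : M₁ ≠ M₂ ∧ T₁ ≤ M₂ := by
  set B := T₁ ⊔ T₂ with hB
  have hBL : B ≤ L := sup_le h1L h2L
  have hBtop : B ≠ ⊤ := fun h => hL.1 (top_le_iff.1 (h ▸ hBL))
  have hlt : T₁ < B := by
    refine lt_of_le_of_ne le_sup_left (fun h => hne ?_)
    have h3 : T₂ ≤ T₁ := by rw [h]; exact le_sup_right
    exact (eq_of_le_of_card_ge h3 (by rw [c1, c2])).symm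
  have hY : YY B = ⊤ := by
    by_contra hY
    refine IH B (c1 ▸ card_lt_of_lt hlt) ⟨hBtop, ?_, hY, ?_⟩
    · rw [eq_top_iff, ← h1.2.1]
      exact normalClosure_mono (show (T₁ : Set G) ⊆ B from le_sup_left (a := T₁) (b := T₂))
    · intro hu
      exact hLL (hu.unique ⟨hL, hBL⟩ ⟨hL', sup_le h1L' h2L'⟩)
  have key : ∀ H ∈ HH B, H ≤ B ∨ H ≤ M₁ ∨ H ≤ M₂ := by
    rintro H ⟨hH1, hH2⟩
    obtain ⟨K, hK1, hK2⟩ := exists_coatom_ge hH2
    by_cases e1 : K = M₁
    · exact Or.inr (Or.inl (e1 ▸ hK2))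
    by_cases e2 : K = M₂
    · exact Or.inr (Or.inr (e2 ▸ hK2))
    left
    have t1 : T₁ ≤ K := (le_sup_left.trans hH1.1).trans hK2
    have t2 : T₂ ≤ K := (le_sup_right.trans hH1.1).trans hK2
    have s1 := sn_of_ne IH h1 c1 hM1 hK1 t1 e1
    have s2 := sn_of_ne IH h2 c2 hM2 hK1 t2 e2
    have s3 : (B.subgroupOf K).IsSubnormal := by
      rw [hB, subgroupOf_sup t1 t2]
      exact isSubnormal_sup s1 s2
    exact hH1.le_of_sn hK2 le_rfl s3
  have fin : ∀ P : Subgroup G, P ≠ ⊤ → (∀ H ∈ HH B, H ≤ P) → False := by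
    intro P hP h
    apply hP
    rw [eq_top_iff, ← hY]
    exact sSup_le h
  constructor
  · intro e
    have hBM : B ≤ M₁ := sup_le (hM1.le h1) (e ▸ hM2.le h2)
    apply fin M₁ hM1.1.1
    intro H hH
    rcases key H hH with h | h | h
    · exact h.trans hBM
    · exact h
    · exact e ▸ h
  · by_contra hcon
    have k2 : ∀ H ∈ HH B, H ≤ B ∨ H ≤ M₁ := by
      intro H hH
      rcases key H hH with h | h | h
      · exact Or.inl h
      · exact Or.inr h
      · exact absurd ((le_sup_left.trans hH.1.1).trans h) hcon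
    by_cases hBM : B ≤ M₁
    · apply fin M₁ hM1.1.1
      intro H hH
      rcases k2 H hH with h | h
      · exact h.trans hBM
      · exact h
    · apply fin B hBtop
      intro H hH
      rcases k2 H hH with h | h
      · exact h
      · exact absurd (hH.1.1.trans h) hBM

theorem pair_lemma (IH : ∀ B : Subgroup G, a < Nat.card B → ¬ Bad B)
    {T₁ T₂ M₁ M₂ L L' : Subgroup G} (h1 : Bad T₁) (c1 : Nat.card T₁ = a) (h2 : Bad T₂)
    (c2 : Nat.card T₂ = a) (hne : T₁ ≠ T₂) (hM1 : IsM T₁ M₁) (hM2 : IsM T₂ M₂)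
    (hL : IsCoatom L) (hL' : IsCoatom L') (hLL : L ≠ L') (h1L : T₁ ≤ L) (h2L : T₂ ≤ L)
    (h1L' : T₁ ≤ L') (h2L' : T₂ ≤ L') : M₁ ≠ M₂ ∧ T₁ ≤ M₂ ∧ T₂ ≤ M₁ :=
  ⟨(pair_aux IH h1 c1 h2 c2 hne hM1 hM2 hL hL' hLL h1L h2L h1L' h2L').1,
   (pair_aux IH h1 c1 h2 c2 hne hM1 hM2 hL hL' hLL h1L h2L h1L' h2L').2,
   (pair_aux IH h2 c2 h1 c1 hne.symm hM2 hM1 hL hL' hLL h2L h1L h2L' h1L').2⟩

end IH

end Cfsg.Agent.Lib.Helper41
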