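import Mathlib
import Cfsg.Agent.Lib.Helper41.GenZipB

set_option autoImplicit false

namespace Cfsg.Agent.Lib.Helper41

open Pointwise Subgroup
open Cfsg.Agent.Lib.Helper12 (mem_normalizer_iff_smul card_conj_smul isSubnormal_sup
  exists_normalizes_sSup_rel)

variable {G : Type*} [Group G]

/-- the counterexamples of order `a` contained in two given subgroups. -/
def Dl (a : ℕ) (L₁ L₂ : Subgroup G) : Set (Subgroup G) :=
  {T | (Bad T ∧ Nat.card T = a) ∧ T ≤ L₁ ∧ T ≤ L₂}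

theorem sn_conj_of_mem {T M : Subgroup G} (h : (T.subgroupOf M).IsSubnormal) {m : G} (hm : m ∈ M) :
    ((MulAut.conj m • T).subgroupOf M).IsSubnormal := by
  have := Cfsg.Agent.S4333.conj_transfer m h
  rwa [conj_smul_eq_self_of_mem hm] at this

theorem conj_le_of_mem {T M : Subgroup G} (h : T ≤ M) {m : G} (hm : m ∈ M) :
    MulAut.conj m • T ≤ M := by
  have := pointwise_smul_le_pointwise_smul_iff (a := MulAut.conj m) |>.2 h
  rwa [conj_smul_eq_self_of_mem hm] at this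

variable [Finite G] {a : ℕ}

theorem no_bad_step (IH : ∀ B : Subgroup G, a < Nat.card B → ¬ Bad B) {A : Subgroup G}
    (hA : Bad A) (hc : Nat.card A = a) : False := by
  classical
  -- the initial pair
  obtain ⟨M, hM⟩ := exists_isM hA
  have hAM := hM.le hA
  obtain ⟨K, hK, hAK, hKM⟩ : ∃ K : Subgroup G, IsCoatom K ∧ A ≤ K ∧ K ≠ M := by
    by_contra hcon
    push Not at hcon
    exact hA.2.2.2 ⟨M, ⟨hM.1, hAM⟩, fun K hK => hcon K hK.1 hK.2⟩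
  have hsnK := sn_of_ne IH hA hc hM hK hAK hKM
  obtain ⟨k, hk, hkA⟩ : ∃ k ∈ K, MulAut.conj k • A ≠ A := by
    by_contra hcon
    push Not at hcon
    apply hKM
    apply IsCoatom_eq_of_le hK hM.1
    refine le_trans ?_ (normalizer_le_isM IH hA hc hM)
    intro k hk
    rw [mem_normalizer_iff_smul]
    exact hcon k hk
  obtain ⟨X, ⟨k', hk', rfl⟩, hX0, hXn⟩ := exists_normalizes_sSup_rel K
    {U | ∃ k ∈ K, U = MulAut.conj k • A} {A}
    (by rintro _ ⟨k, hk, rfl⟩; exact conj_le_of_mem hAK hk)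
    (by rintro _ ⟨k, hk, rfl⟩; exact sn_conj_of_mem hsnK hk)
    (by
      rintro _ ⟨k, hk, rfl⟩ g hg
      exact ⟨g * k, K.mul_mem hg hk, by rw [map_mul, mul_smul]⟩)
    (by
      refine ⟨?_, ?_⟩
      · rintro _ rfl
        exact ⟨1, K.one_mem, by simp⟩
      · intro h
        exact hkA (h ⟨k, hk, rfl⟩))
  rw [sSup_singleton] at hXn
  have hX0' : MulAut.conj k' • A ≠ A := hX0
  have h2 : 2 ≤ (Dl a M K).ncard := by
    have hsub : ({A, MulAut.conj k' • A} : Set (Subgroup G)) ⊆ Dl a M K := by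
      rintro T (rfl | rfl)
      · exact ⟨⟨hA, hc⟩, hAM, hAK⟩
      · exact ⟨⟨hA.smul k', by rw [card_conj_smul, hc]⟩,
          hXn.trans (normalizer_le_isM IH hA hc hM), conj_le_of_mem hAK hk'⟩
    calc 2 = ({A, MulAut.conj k' • A} : Set (Subgroup G)).ncard :=
          (Set.ncard_pair hX0'.symm).symm
      _ ≤ _ := Set.ncard_le_ncard hsub (Set.toFinite _)
  -- a maximal pair
  let P := {p : Subgroup G × Subgroup G // IsCoatom p.1 ∧ IsCoatom p.2 ∧ p.1 ≠ p.2}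
  haveI : Nonempty P := ⟨⟨(M, K), hM.1, hK, hKM.symm⟩⟩
  obtain ⟨⟨⟨L₁, L₂⟩, hL₁, hL₂, hL12⟩, hmax⟩ :=
    Finite.exists_max (fun p : P => (Dl a p.1.1 p.1.2).ncard)
  simp only at hL₁ hL₂ hL12 hmax
  have hmax' : ∀ N₁ N₂ : Subgroup G, IsCoatom N₁ → IsCoatom N₂ → N₁ ≠ N₂ →
      (Dl a N₁ N₂).ncard ≤ (Dl a L₁ L₂).ncard :=
    fun N₁ N₂ h1 h2 h3 => hmax ⟨(N₁, N₂), h1, h2, h3⟩
  set Δ := Dl a L₁ L₂ with hΔ
  have h2Δ : 1 < Δ.ncard := lt_of_lt_of_le (by norm_num) (h2.trans (hmax' M K hM.1 hK hKM.symm))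
  obtain ⟨T₁, hT₁, T₂, hT₂, hT12⟩ := (Set.one_lt_ncard (Set.toFinite _)).1 h2Δ
  have hC1 : ∀ T ∈ Δ, ∀ T' ∈ Δ, T ≠ T' → ∀ N N', IsM T N → IsM T' N' →
      N ≠ N' ∧ T ≤ N' ∧ T' ≤ N := by
    intro T hT T' hT' hne N N' hN hN'
    exact pair_lemma IH hT.1.1 hT.1.2 hT'.1.1 hT'.1.2 hne hN hN' hL₁ hL₂ hL12 hT.2.1 hT'.2.1
      hT.2.2 hT'.2.2
  have hC2 : ∀ T ∈ Δ, ∀ T' ∈ Δ, T ≠ T' → ∀ N N', IsM T N → IsM T' N' → Dl a N N' = Δ := by
    intro T hT T' hT' hne N N' hN hN'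
    have hsub : Δ ⊆ Dl a N N' := by
      intro U hU
      obtain ⟨NU, hNU⟩ := exists_isM hU.1.1
      refine ⟨hU.1, ?_, ?_⟩
      · by_cases e : U = T
        · exact e ▸ hN.le hT.1.1
        · exact (hC1 U hU T hT e NU N hNU hN).2.1
      · by_cases e : U = T'
        · exact e ▸ hN'.le hT'.1.1
        · exact (hC1 U hU T' hT' e NU N' hNU hN').2.1
    exact (Set.eq_of_subset_of_ncard_le hsub
      (hmax' N N' hN.1 hN'.1 (hC1 T hT T' hT' hne N N' hN hN').1) (Set.toFinite _)).symm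
  set W : Subgroup G := sSup Δ with hW
  have hWL : W ≤ L₁ := sSup_le (fun U hU => hU.2.1)
  have hWtop : W ≠ ⊤ := fun h => hL₁.1 (top_le_iff.1 (h ▸ hWL))
  have hNW : normalizer (W : Set G) ≠ ⊤ := by
    intro h
    exact hT₁.1.1.not_normal_of_le (le_sSup hT₁) hWtop (normalizer_eq_top_iff.1 h)
  obtain ⟨L₃, hL₃, hNL₃⟩ := exists_coatom_ge hNW
  have hC3 : ∀ T₁ ∈ Δ, ∀ T₂ ∈ Δ, T₁ ≠ T₂ → ∀ M₁, IsM T₁ M₁ → L₃ = M₁ := by
    intro T₁ hT₁ T₂ hT₂ hT12 M₁ hM₁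
    obtain ⟨M₂, hM₂⟩ := exists_isM hT₂.1.1
    obtain ⟨hM12, hT1M2, hT2M1⟩ := hC1 T₁ hT₁ T₂ hT₂ hT12 M₁ M₂ hM₁ hM₂
    have hΔ12 := hC2 T₁ hT₁ T₂ hT₂ hT12 M₁ M₂ hM₁ hM₂
    have hsn : (T₂.subgroupOf M₁).IsSubnormal :=
      sn_of_ne IH hT₂.1.1 hT₂.1.2 hM₂ hM₁.1 hT2M1 hM12
    have trick : ∀ m ∈ M₁, MulAut.conj m • T₂ ∈ Δ → m ∈ normalizer (W : Set G) := by
      intro m hm hmΔ
      have hne : T₁ ≠ MulAut.conj m • T₂ := by
        intro e
        apply not_sn hT₁.1.1 hM₁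
        rw [e]
        exact sn_conj_of_mem hsn hm
      have hΔ' := hC2 T₁ hT₁ _ hmΔ hne M₁ _ hM₁ (hM₂.smul m)
      apply Cfsg.Agent.S0539.mem_normalizer_sSup
      intro U hU
      rw [← hΔ12] at hU
      rw [← hΔ']
      exact ⟨⟨hU.1.1.smul m, by rw [card_conj_smul, hU.1.2]⟩, conj_le_of_mem hU.2.1 hm,
        pointwise_smul_le_pointwise_smul_iff.2 hU.2.2⟩
    by_cases hsub : {U | ∃ m ∈ M₁, U = MulAut.conj m • T₂} ⊆ Δ
    · symm
      apply IsCoatom_eq_of_le hM₁.1 hL₃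
      refine le_trans ?_ hNL₃
      intro m hm
      exact trick m hm (hsub ⟨m, hm, rfl⟩)
    · obtain ⟨X, ⟨x, hx, rfl⟩, hX0, hXn⟩ := exists_normalizes_sSup_rel M₁
        {U | ∃ m ∈ M₁, U = MulAut.conj m • T₂} ({U | ∃ m ∈ M₁, U = MulAut.conj m • T₂} ∩ Δ)
        (by rintro _ ⟨k, hk, rfl⟩; exact conj_le_of_mem hT2M1 hk)
        (by rintro _ ⟨k, hk, rfl⟩; exact sn_conj_of_mem hsn hk)
        (by
          rintro _ ⟨k, hk, rfl⟩ g hg
          exact ⟨g * k, M₁.mul_mem hg hk, by rw [map_mul, mul_smul]⟩)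
        ⟨Set.inter_subset_left, fun h => hsub (fun U hU => (h hU).2)⟩
      have hXΔ : MulAut.conj x • T₂ ∉ Δ := fun h => hX0 ⟨⟨x, hx, rfl⟩, h⟩
      have hXM : MulAut.conj x • T₂ ≤ M₁ := conj_le_of_mem hT2M1 hx
      set W₀ : Subgroup G := sSup ({U | ∃ m ∈ M₁, U = MulAut.conj m • T₂} ∩ Δ) with hW₀
      have hT2W0 : T₂ ≤ W₀ := le_sSup ⟨⟨1, M₁.one_mem, by simp⟩, hT₂⟩
      have hW0W : W₀ ≤ W := sSup_le_sSup Set.inter_subset_right
      have hWM1 : W ≤ M₁ := sSup_le (fun U hU => by rw [← hΔ12] at hU; exact hU.2.1)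
      have hWM2 : W ≤ M₂ := sSup_le (fun U hU => by rw [← hΔ12] at hU; exact hU.2.2)
      have hXL : MulAut.conj x • T₂ ≤ L₃ := by
        refine le_trans ?_ hNL₃
        intro ξ hξ
        apply trick ξ (hXM hξ)
        have h1 : MulAut.conj ξ • W₀ = W₀ := (mem_normalizer_iff_smul _ _).1 (hXn hξ)
        have h2 : MulAut.conj ξ • T₂ ≤ W₀ := by
          rw [← h1]
          exact pointwise_smul_le_pointwise_smul_iff.2 hT2W0
        rw [← hΔ12]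
        exact ⟨⟨hT₂.1.1.smul ξ, by rw [card_conj_smul, hT₂.1.2]⟩, (h2.trans hW0W).trans hWM1,
          (h2.trans hW0W).trans hWM2⟩
      by_contra hne
      have h3 := hmax' L₃ M₁ hL₃ hM₁.1 hne
      have hsub2 : insert (MulAut.conj x • T₂) Δ ⊆ Dl a L₃ M₁ := by
        rintro U (rfl | hU)
        · exact ⟨⟨hT₂.1.1.smul x, by rw [card_conj_smul, hT₂.1.2]⟩, hXL, hXM⟩
        · exact ⟨hU.1, ((le_sSup hU).trans le_normalizer).trans hNL₃, (le_sSup hU).trans hWM1⟩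
      have h4 := Set.ncard_le_ncard hsub2 (Set.toFinite _)
      rw [Set.ncard_insert_of_notMem hXΔ (Set.toFinite _)] at h4
      omega
  obtain ⟨M₁, hM₁⟩ := exists_isM hT₁.1.1
  obtain ⟨M₂, hM₂⟩ := exists_isM hT₂.1.1
  have e1 := hC3 T₁ hT₁ T₂ hT₂ hT12 M₁ hM₁
  have e2 := hC3 T₂ hT₂ T₁ hT₁ hT12.symm M₂ hM₂
  exact (hC1 T₁ hT₁ T₂ hT₂ hT12 M₁ M₂ hM₁ hM₂).1 (e1.symm.trans e2)

theorem not_bad (A : Subgroup G) : ¬ Bad A := by
  have key : ∀ (n : ℕ) (A : Subgroup G), Nat.card G - Nat.card A = n → ¬ Bad A := by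
    intro n
    induction n using Nat.strong_induction_on with
    | _ n ih =>
      intro A hn hA
      refine no_bad_step (a := Nat.card A) ?_ hA rfl
      intro B hB
      have h1 : Nat.card B ≤ Nat.card G := Subgroup.card_le_card_group B
      exact ih (Nat.card G - Nat.card B) (by omega) B rfl
  exact key _ A rfl

/-- Generalized zipper lemma (Flavell). -/
theorem gen_zipper (A : Subgroup G) (hA : normalClosure (A : Set G) = ⊤) (hAG : A ≠ ⊤) :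
    YY A = ⊤ ∨ ∃! M : Subgroup G, IsCoatom M ∧ A ≤ M := by
  by_contra hcon
  push Not at hcon
  exact not_bad A ⟨hAG, hA, hcon.1, hcon.2⟩

end Cfsg.Agent.Lib.Helper41
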