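import Mathlib
import Cfsg.Agent.Lib.Helper41.GenZipC

set_option autoImplicit false

namespace Cfsg.Agent.Lib.Helper41

open Pointwise Subgroup
open Cfsg.Agent.Lib.Helper12 (mem_normalizer_iff_smul)

universe u

/-- If `Γ` is the normal closure of `a`, then `a` together with the `k`-fold commutators
`[x, a, …, a]` generates `Γ`. -/
theorem engel_gen_aux : ∀ (n : ℕ) (Γ : Type u) [Group Γ] [Finite Γ] (a : Γ), Nat.card Γ = n →
    NCl (zpowers a) ⊤ → ∀ k : ℕ,
      closure ({a} ∪ Set.range ((fun x : Γ => x * a * x⁻¹ * a⁻¹)^[k])) = ⊤ := by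
  intro n
  induction n using Nat.strong_induction_on with
  | _ n ih =>
    intro Γ _ _ a hn hncl k
    set L : Subgroup Γ := closure ({a} ∪ Set.range ((fun x : Γ => x * a * x⁻¹ * a⁻¹)^[k])) with hL
    by_contra hLtop
    have haL : a ∈ L := subset_closure (Or.inl rfl)
    have hAL : zpowers a ≤ L := (zpowers_le).2 haL
    have hAtop : zpowers a ≠ ⊤ := fun h => hLtop (top_le_iff.1 (h ▸ hAL))
    have hnc : normalClosure ((zpowers a : Subgroup Γ) : Set Γ) = ⊤ := by
      rw [eq_top_iff]
      exact hncl.2 _ le_normalClosure (fun h _ n hn => normalClosure_normal.conj_mem n hn h)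
    rcases gen_zipper (zpowers a) hnc hAtop with hY | ⟨M, ⟨hM, hAM⟩, huniq⟩
    · apply hLtop
      rw [eq_top_iff, ← hY]
      apply sSup_le
      rintro H ⟨hH1, hH2⟩
      have haH : a ∈ H := hH1.1 (mem_zpowers a)
      have hcard : Nat.card H < n := by
        rw [← hn, ← Nat.card_congr (Subgroup.topEquiv (G := Γ)).toEquiv]
        exact card_lt_of_lt hH2.lt_top
      have hncl' : NCl (zpowers (⟨a, haH⟩ : H)) ⊤ := by
        refine ⟨le_top, fun N' h1 h2 => ?_⟩
        have h3 : H ≤ N'.map H.subtype := by
          apply hH1.2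
          · rw [zpowers_le]
            exact ⟨⟨a, haH⟩, h1 (mem_zpowers _), rfl⟩
          · rintro h hh _ ⟨n', hn', rfl⟩
            exact ⟨⟨h, hh⟩ * n' * ⟨h, hh⟩⁻¹, h2 _ (mem_top _) _ hn', by simp⟩
        intro x _
        obtain ⟨y, hy, hxy⟩ := h3 x.2
        have : y = x := Subtype.ext hxy
        rwa [← this]
      have h4 := ih _ hcard H ⟨a, haH⟩ rfl hncl' k
      have h5 : H = (⊤ : Subgroup H).map H.subtype := by
        rw [← MonoidHom.range_eq_map, range_subtype]
      rw [h5, ← h4, MonoidHom.map_closure, closure_le]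
      rintro _ ⟨y, hy, rfl⟩
      rcases hy with hy | ⟨x, rfl⟩
      · rw [Set.mem_singleton_iff.1 hy]
        exact haL
      · apply Subgroup.subset_closure
        right
        refine ⟨(x : Γ), ?_⟩
        have hsemi : Function.Semiconj (H.subtype : H → Γ)
            (fun x : H => x * ⟨a, haH⟩ * x⁻¹ * (⟨a, haH⟩ : H)⁻¹)
            (fun x : Γ => x * a * x⁻¹ * a⁻¹) := by
          intro x
          simp
        exact ((hsemi.iterate_right k) x).symm
    · obtain ⟨M', hM', hLM'⟩ := exists_coatom_ge hLtop
      have hMM : M' = M := huniq M' ⟨hM', hAL.trans hLM'⟩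
      rw [hMM] at hLM'
      have haM : a ∈ M := hAM (mem_zpowers a)
      have hnM : normalizer (M : Set Γ) = M := by
        rcases hM.le_iff.1 (le_normalizer (H := M)) with h | h
        · exfalso
          apply hM.1
          rw [eq_top_iff, ← hnc]
          haveI := normalizer_eq_top_iff.1 h
          exact normalClosure_le_normal hAM
        · exact h
      have step : ∀ x : Γ, x * a * x⁻¹ * a⁻¹ ∈ M → x ∈ M := by
        intro x hx
        have h1 : x * a * x⁻¹ ∈ M := by
          have := M.mul_mem hx haM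
          simpa using this
        have h2 : zpowers a ≤ MulAut.conj x⁻¹ • M := by
          rw [zpowers_le, mem_pointwise_smul_iff_inv_smul_mem]
          simpa [MulAut.smul_def] using h1
        have h3 := huniq _ ⟨isCoatom_conj_smul hM x⁻¹, h2⟩
        rw [← mem_normalizer_iff_smul, hnM] at h3
        simpa using h3
      have steps : ∀ (j : ℕ) (x : Γ), (fun x : Γ => x * a * x⁻¹ * a⁻¹)^[j] x ∈ M → x ∈ M := by
        intro j
        induction j with
        | zero => intro x hx; exact hx
        | succ j ihj =>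
          intro x hx
          rw [Function.iterate_succ_apply] at hx
          exact step x (ihj _ hx)
      apply hM.1
      rw [eq_top_iff]
      intro x _
      exact steps k x (hLM' (subset_closure (Or.inr ⟨x, rfl⟩)))

theorem engel_gen {Γ : Type u} [Group Γ] [Finite Γ] (a : Γ) (h : NCl (zpowers a) ⊤) (k : ℕ) :
    closure ({a} ∪ Set.range ((fun x : Γ => x * a * x⁻¹ * a⁻¹)^[k])) = ⊤ :=
  engel_gen_aux _ Γ a rfl h k

end Cfsg.Agent.Lib.Helper41
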