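import Mathlib
import Cfsg.Agent.Lib.Helper41.GenZipD

set_option autoImplicit false

namespace Cfsg.Agent.Lib.Helper41

open Pointwise Subgroup

universe u

variable {G : Type u} [Group G] (α : MulAut G)

/-- the semidirect product of `G` with the cyclic group generated by `α`. -/
abbrev Gam : Type u := SemidirectProduct G (zpowers α) (zpowers α).subtype

/-- the commutator map with an automorphism. -/
def cmap (g : G) : G := g * (α g)⁻¹

/-- the automorphism as an element of the semidirect product. -/
def aGam : (Gam α) := SemidirectProduct.inr ⟨α, mem_zpowers α⟩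

theorem zp_comm (z : zpowers α) : (z : MulAut G) * α = α * z := by
  obtain ⟨_, i, rfl⟩ := z
  exact (Commute.zpow_self α i)

theorem zp_cmap (z : zpowers α) (g : G) : (z : MulAut G) (cmap α g) = cmap α ((z : MulAut G) g) := by
  have h1 : (z : MulAut G) (α g) = α ((z : MulAut G) g) := by
    have := congrArg (fun e : MulAut G => e g) (zp_comm α z)
    simpa [MulAut.mul_apply] using this
  simp only [cmap, map_mul, map_inv, h1]

theorem zp_cmap_iter (z : zpowers α) (j : ℕ) (g : G) :
    (z : MulAut G) ((cmap α)^[j] g) = (cmap α)^[j] ((z : MulAut G) g) :=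
  (Function.Semiconj.iterate_right (f := fun g => (z : MulAut G) g) (ga := cmap α) (gb := cmap α)
      (zp_cmap α z) j) g

theorem comm_aGam (x : (Gam α)) :
    x * aGam α * x⁻¹ * (aGam α)⁻¹ = SemidirectProduct.inl (cmap α x.left) := by
  have h1 : ((x.right : MulAut G) * α * (x.right : MulAut G)⁻¹) = α := by
    rw [zp_comm, mul_inv_cancel_right]
  apply SemidirectProduct.ext
  · have h2 : ((x.right : MulAut G) * α) ((x.right : MulAut G)⁻¹ (x.left)⁻¹) = (α x.left)⁻¹ := by
      have := congrArg (fun e : MulAut G => e (x.left)⁻¹) h1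
      simpa [MulAut.mul_apply] using this
    simp only [aGam, SemidirectProduct.mul_left, SemidirectProduct.mul_right,
      SemidirectProduct.inv_left, SemidirectProduct.inv_right, SemidirectProduct.left_inr,
      SemidirectProduct.right_inr, SemidirectProduct.left_inl, map_one, mul_one, inv_one,
      Subgroup.coe_subtype, Subgroup.coe_mul, Subgroup.coe_inv, cmap]
    rw [h2]
  · apply Subtype.ext
    simp only [aGam, SemidirectProduct.mul_right, SemidirectProduct.inv_right,
      SemidirectProduct.right_inr, SemidirectProduct.right_inl, Subgroup.coe_mul,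
      Subgroup.coe_inv, Subgroup.coe_one]
    rw [h1, mul_inv_cancel]

theorem comm_aGam_iter (j : ℕ) (x : (Gam α)) :
    (fun x : (Gam α) => x * aGam α * x⁻¹ * (aGam α)⁻¹)^[j + 1] x =
      SemidirectProduct.inl ((cmap α)^[j + 1] x.left) := by
  induction j with
  | zero => exact comm_aGam α x
  | succ j ih =>
    rw [Function.iterate_succ_apply', ih, Function.iterate_succ_apply' (f := cmap α) (n := j + 1)]
    exact comm_aGam α _

theorem ncl_aGam (hG : closure (Set.range (cmap α)) = ⊤) : NCl (zpowers (aGam α)) ⊤ := by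
  refine ⟨le_top, fun N h1 h2 => ?_⟩
  have haN : aGam α ∈ N := h1 (mem_zpowers _)
  have hinl : ∀ g : G, (SemidirectProduct.inl g : (Gam α)) ∈ N := by
    have h3 : (⊤ : Subgroup G) ≤ N.comap (SemidirectProduct.inl : G →* (Gam α)) := by
      rw [← hG, closure_le]
      rintro _ ⟨g, rfl⟩
      show (SemidirectProduct.inl (cmap α g) : (Gam α)) ∈ N
      have h4 := comm_aGam α (SemidirectProduct.inl g)
      rw [SemidirectProduct.left_inl] at h4
      rw [← h4]
      exact N.mul_mem (h2 _ (mem_top _) _ haN) (N.inv_mem haN)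
    intro g
    exact h3 (mem_top g)
  have hinr : ∀ z : zpowers α, (SemidirectProduct.inr z : (Gam α)) ∈ N := by
    rintro ⟨_, i, rfl⟩
    have : (SemidirectProduct.inr (⟨α ^ i, i, rfl⟩ : zpowers α) : (Gam α)) = (aGam α) ^ i := by
      rw [aGam, ← map_zpow]
      congr 1
    rw [this]
    exact N.zpow_mem haN i
  intro x _
  rw [← SemidirectProduct.inl_left_mul_inr_right x]
  exact N.mul_mem (hinl _) (hinr _)

/-- the elements of the semidirect product whose left component lies in an invariant subgroup. -/
def leftSub (H : Subgroup G) (hinv : ∀ (z : zpowers α), ∀ h ∈ H, (z : MulAut G) h ∈ H) :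
    Subgroup (Gam α) where
  carrier := {x | x.left ∈ H}
  mul_mem' := by
    intro x y hx hy
    show (x * y).left ∈ H
    rw [SemidirectProduct.mul_left]
    exact H.mul_mem hx (hinv _ _ hy)
  one_mem' := by
    show (1 : (Gam α)).left ∈ H
    rw [SemidirectProduct.one_left]
    exact H.one_mem
  inv_mem' := by
    intro x hx
    show (x⁻¹).left ∈ H
    rw [SemidirectProduct.inv_left]
    exact hinv (x.right⁻¹) _ (H.inv_mem hx)

theorem iter_comm_gen [Finite G] (hG : closure (Set.range (cmap α)) = ⊤) (k : ℕ) (hk : 1 ≤ k) :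
    closure (Set.range ((cmap α)^[k])) = ⊤ := by
  set H : Subgroup G := closure (Set.range ((cmap α)^[k])) with hH
  haveI : Finite (MulAut G) := Finite.of_injective (fun e : MulAut G => (e : G → G))
    (fun e f h => MulEquiv.ext (congrFun h))
  haveI : Finite (Gam α) := Finite.of_equiv _ SemidirectProduct.equivProd.symm
  have hinv : ∀ (z : zpowers α), ∀ h ∈ H, (z : MulAut G) h ∈ H := by
    intro z h hh
    have h1 : H ≤ H.comap ((z : MulAut G).toMonoidHom) := by
      rw [hH, closure_le]
      rintro _ ⟨g, rfl⟩
      show (z : MulAut G) ((cmap α)^[k] g) ∈ closure (Set.range ((cmap α)^[k]))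
      rw [zp_cmap_iter]
      exact Subgroup.subset_closure ⟨_, rfl⟩
    exact h1 hh
  have hE := engel_gen (aGam α) (ncl_aGam α hG) k
  have hP : (⊤ : Subgroup (Gam α)) ≤ leftSub α H hinv := by
    rw [← hE, closure_le]
    rintro y (hy | ⟨x, rfl⟩)
    · rw [Set.mem_singleton_iff.1 hy]
      show (aGam α).left ∈ H
      simp only [aGam, SemidirectProduct.left_inr]
      exact H.one_mem
    · obtain ⟨j, rfl⟩ : ∃ j, k = j + 1 := ⟨k - 1, by omega⟩
      show ((fun x : (Gam α) => x * aGam α * x⁻¹ * (aGam α)⁻¹)^[j + 1] x).left ∈ H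
      rw [comm_aGam_iter, SemidirectProduct.left_inl]
      exact Subgroup.subset_closure ⟨_, rfl⟩
  rw [eq_top_iff]
  intro g _
  exact hP (mem_top (SemidirectProduct.inl g : (Gam α)))

end Cfsg.Agent.Lib.Helper41
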