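import Cfsg.Agent.Lib.Helper53.KS18Defs

set_option autoImplicit false

/-! Ladder KS18, rung HQ (helper41). -/

namespace Cfsg.Agent.Lib.Helper41.KS18

open Cfsg Subgroup
open Cfsg.Agent.Lib.Helper53.KS18

variable {G : Type*} [Group G] [Finite G]

omit [Finite G] in
theorem hh_normal : (HH G).Normal := by
  constructor
  intro n hn g
  have h1 : (HH G).map (MulAut.conj g).toMonoidHom ≤ HH G := by
    unfold HH
    rw [MonoidHom.map_closure, closure_le]
    rintro _ ⟨x, hx, rfl⟩
    apply Subgroup.subset_closure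
    show Odd (orderOf ((MulAut.conj g) x))
    rw [MulEquiv.orderOf_eq]
    exact hx
  exact h1 ⟨n, hn, by simp [MulAut.conj_apply]⟩

omit [Finite G] in
theorem hh_odd {g : G} (h : Odd (orderOf g)) : g ∈ HH G := Subgroup.subset_closure h

omit [Finite G] in
theorem hh_comm {c : G} (hc : c ∈ HH G) (h2 : c * c = 1) : c ∈ commutator G := by
  have key : ∀ x ∈ HH G, ∃ m : ℕ, Odd m ∧ (Abelianization.of x) ^ m = 1 := by
    intro x hx
    unfold HH at hx
    induction hx using closure_induction with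
    | mem x hx => exact ⟨orderOf x, hx, by rw [← map_pow, pow_orderOf_eq_one, map_one]⟩
    | one => exact ⟨1, odd_one, by simp⟩
    | mul x y _ _ ihx ihy =>
      obtain ⟨m, hm, hxm⟩ := ihx
      obtain ⟨n, hn, hyn⟩ := ihy
      refine ⟨m * n, hm.mul hn, ?_⟩
      rw [map_mul, mul_pow, pow_mul, hxm, one_pow, mul_comm m n, pow_mul, hyn, one_pow, one_mul]
    | inv x _ ih =>
      obtain ⟨m, hm, hxm⟩ := ih
      exact ⟨m, hm, by rw [map_inv, inv_pow, hxm, inv_one]⟩
  obtain ⟨m, ⟨k, rfl⟩, hm⟩ := key c hc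
  have h3 : (Abelianization.of c) ^ 2 = 1 := by rw [← map_pow, sq, h2, map_one]
  rw [pow_succ, pow_mul, h3, one_pow, one_mul] at hm
  rw [← Abelianization.ker_of, MonoidHom.mem_ker]
  exact hm

end Cfsg.Agent.Lib.Helper41.KS18
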