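import Mathlib

set_option autoImplicit false

namespace Cfsg.Agent.Lib.Helper41.BR

/-- a normal subgroup of prime index contains the commutator subgroup -/
theorem commutator_le_of_index_prime {G : Type*} [Group G] {p : ℕ} [Fact p.Prime]
    (K : Subgroup G) [K.Normal] (h : K.index = p) : commutator G ≤ K := by
  have hc : Nat.card (G ⧸ K) = p := h
  have hcyc : IsCyclic (G ⧸ K) := isCyclic_of_prime_card hc
  rw [← QuotientGroup.ker_mk' K]
  let _ : CommGroup (G ⧸ K) := hcyc.commGroup
  exact Abelianization.commutator_subset_ker _

/-- RUNG BURN -/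
theorem two_le_relIndex {G : Type*} [Group G] [Finite G] (hperf : commutator G = ⊤) (p : ℕ)
    [Fact p.Prime] (P : Sylow p G) (hP : Nat.card P = p) :
    2 ≤ (Subgroup.centralizer ((P : Subgroup G) : Set G)).relIndex
      (Subgroup.normalizer ((P : Subgroup G) : Set G)) := by
  have hp : p.Prime := Fact.out
  by_contra hlt
  have h0 : (Subgroup.centralizer ((P : Subgroup G) : Set G)).relIndex
      (Subgroup.normalizer ((P : Subgroup G) : Set G)) ≠ 0 := by
    unfold Subgroup.relIndex
    exact Subgroup.index_ne_zero_of_finite
  have h1 : (Subgroup.centralizer ((P : Subgroup G) : Set G)).relIndex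
      (Subgroup.normalizer ((P : Subgroup G) : Set G)) = 1 := by omega
  have hle : Subgroup.normalizer ((P : Subgroup G) : Set G)
      ≤ Subgroup.centralizer ((P : Subgroup G) : Set G) := Subgroup.relIndex_eq_one.mp h1
  have hc := MonoidHom.ker_transferSylow_isComplement' P hle
  have hi : (MonoidHom.transferSylow P hle).ker.index = p := by
    rw [hc.symm.index_eq_card, hP]
  have hK := commutator_le_of_index_prime _ hi
  rw [hperf, top_le_iff] at hK
  rw [hK, Subgroup.index_top] at hi
  exact hp.one_lt.ne hi

end Cfsg.Agent.Lib.Helper41.BR
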