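import Cfsg.Agent.Lib.Helper53.KS18Defs
import Cfsg.Agent.Lib.Helper51.PCore
import Cfsg.Agent.Lib.Helper53.Basic

set_option autoImplicit false

/-! Ladder KS18, rung S4F (helper41): `O₂` of a subgroup isomorphic to `S₄`. -/

namespace Cfsg.Agent.Lib.Helper41.KS18

open Cfsg Subgroup Equiv

/-- membership in the Klein four subgroup of `S₄`. -/
def s4fPV (a : Perm (Fin 4)) : Prop := a * a = 1 ∧ (a = 1 ∨ ∀ x, a x ≠ x)

instance : DecidablePred s4fPV := fun a => by unfold s4fPV; infer_instance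

theorem s4f_mul : ∀ a b : Perm (Fin 4), s4fPV a → s4fPV b → s4fPV (a * b) := by decide +kernel
theorem s4f_inv : ∀ a : Perm (Fin 4), s4fPV a → s4fPV a⁻¹ := by decide +kernel
theorem s4f_conj : ∀ a g : Perm (Fin 4), s4fPV a → s4fPV (g * a * g⁻¹) := by decide +kernel
theorem s4f_out : ∀ a : Perm (Fin 4), ¬ s4fPV a → ∃ g : Perm (Fin 4), a * (g * a * g⁻¹) ≠ 1 ∧
    (a * (g * a * g⁻¹)) * (a * (g * a * g⁻¹)) * (a * (g * a * g⁻¹)) = 1 := by decide +kernel
theorem s4f_cent : ∀ a : Perm (Fin 4), (∀ v : Perm (Fin 4), s4fPV v → v * a = a * v) → s4fPV a := by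
  decide +kernel
theorem s4f_min : ∀ v w : Perm (Fin 4), s4fPV v → v ≠ 1 → s4fPV w → w ≠ 1 →
    ∃ g : Perm (Fin 4), g * v * g⁻¹ = w := by decide +kernel
theorem s4f_ne : ∃ v : Perm (Fin 4), s4fPV v ∧ v ≠ 1 := by decide +kernel

/-- the Klein four subgroup of `S₄`. -/
def s4fV : Subgroup (Perm (Fin 4)) where
  carrier := {a | s4fPV a}
  mul_mem' := fun {a b} ha hb => s4f_mul a b ha hb
  one_mem' := by decide +kernel
  inv_mem' := fun {a} ha => s4f_inv a ha

theorem s4f_pCore : pCore 2 (Perm (Fin 4)) = s4fV := by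
  apply le_antisymm
  · intro a ha
    by_contra hcon
    obtain ⟨g, h1, h3⟩ := s4f_out a hcon
    have hn := Cfsg.Agent.Lib.Helper53.pCore_normal 2 (Perm (Fin 4))
    have hmem : a * (g * a * g⁻¹) ∈ pCore 2 (Perm (Fin 4)) := mul_mem ha (hn.conj_mem a ha g)
    obtain ⟨k, hk⟩ := Cfsg.Agent.Lib.Helper53.pCore_isPGroup 2 (Perm (Fin 4)) ⟨_, hmem⟩
    have hk' : (a * (g * a * g⁻¹)) ^ 2 ^ k = 1 := by
      have := congrArg Subtype.val hk
      simpa using this
    have h3' : (a * (g * a * g⁻¹)) ^ 3 = 1 := by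
      rw [← h3]
      simp only [pow_succ, pow_zero, one_mul]
    have d1 := orderOf_dvd_of_pow_eq_one hk'
    have d2 := orderOf_dvd_of_pow_eq_one h3'
    have hcop : Nat.Coprime (2 ^ k) 3 := Nat.Coprime.pow_left k (by norm_num)
    have := Nat.eq_one_of_dvd_coprimes hcop d1 d2
    exact h1 (orderOf_eq_one_iff.1 this)
  · apply Cfsg.Agent.Lib.Helper53.le_pCore
    · constructor
      intro a ha g
      exact s4f_conj a g ha
    · intro a
      refine ⟨1, ?_⟩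
      apply Subtype.ext
      have := a.2.1
      simpa [sq] using this

variable {G : Type*} [Group G]

theorem s4f_mem {M : Subgroup G} (e : ↥M ≃* Perm (Fin 4)) (x : M) :
    (x : G) ∈ pCoreOf 2 M ↔ s4fPV (e x) := by
  rw [Cfsg.Agent.Lib.Helper53.mem_pCoreOf_iff]
  have h1 : e x ∈ pCore 2 (Perm (Fin 4)) ↔ x ∈ pCore 2 M :=
    Cfsg.Agent.Lib.Helper51.mem_pCore_equiv 2 e x
  rw [s4f_pCore] at h1
  constructor
  · rintro ⟨_, hx⟩
    exact h1.2 hx
  · intro hx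
    exact ⟨x.2, h1.1 hx⟩

theorem s4f {M : Subgroup G} (i : Nonempty (↥M ≃* Equiv.Perm (Fin 4))) :
    Nat.card ↥M = 24 ∧ pCoreOf 2 M ≠ ⊥ ∧ M ⊓ centralizer (pCoreOf 2 M : Set G) ≤ pCoreOf 2 M ∧
      ∀ N : Subgroup G, N ≤ pCoreOf 2 M → M ≤ normalizer (N : Set G) → N ≠ ⊥ → N = pCoreOf 2 M := by
  obtain ⟨e⟩ := i
  have hQM : pCoreOf 2 M ≤ M := Cfsg.Agent.Lib.Helper53.pCoreOf_le 2 M
  refine ⟨?_, ?_, ?_, ?_⟩
  · rw [Nat.card_congr e.toEquiv, Nat.card_eq_fintype_card, Fintype.card_perm]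
    rfl
  · obtain ⟨v, hv, hv1⟩ := s4f_ne
    intro hbot
    have h1 : ((e.symm v : M) : G) ∈ pCoreOf 2 M := by
      rw [s4f_mem e, MulEquiv.apply_symm_apply]
      exact hv
    rw [hbot, mem_bot] at h1
    have h2 : e.symm v = 1 := Subtype.ext h1
    apply hv1
    rw [← MulEquiv.apply_symm_apply e v, h2, map_one]
  · intro g hg
    obtain ⟨hgM, hgC⟩ := mem_inf.1 hg
    rw [mem_centralizer_iff] at hgC
    have : ((⟨g, hgM⟩ : M) : G) ∈ pCoreOf 2 M := by
      rw [s4f_mem e]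
      apply s4f_cent
      intro v hv
      have h1 : ((e.symm v : M) : G) ∈ pCoreOf 2 M := by
        rw [s4f_mem e, MulEquiv.apply_symm_apply]
        exact hv
      have h2 := hgC _ h1
      have h3 : e.symm v * (⟨g, hgM⟩ : M) = ⟨g, hgM⟩ * e.symm v := Subtype.ext h2
      have h4 := congrArg e h3
      rwa [map_mul, map_mul, MulEquiv.apply_symm_apply] at h4
    exact this
  · intro N hNQ hMN hN
    apply le_antisymm hNQ
    obtain ⟨n, hn1⟩ := (N.ne_bot_iff_exists_ne_one).1 hN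
    have hnQ : (n : G) ∈ pCoreOf 2 M := hNQ n.2
    have hnM : (n : G) ∈ M := hQM hnQ
    have hv : s4fPV (e ⟨n, hnM⟩) := (s4f_mem e ⟨n, hnM⟩).1 hnQ
    have hv1 : e ⟨n, hnM⟩ ≠ 1 := by
      intro h
      have h2 : (⟨n, hnM⟩ : M) = 1 := e.injective (by rw [h, map_one])
      apply hn1
      have h3 : (n : G) = 1 := congrArg Subtype.val h2
      exact Subtype.ext h3
    intro q hq
    by_cases hq1 : q = 1
    · rw [hq1]; exact one_mem _
    have hqM : q ∈ M := hQM hq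
    have hw : s4fPV (e ⟨q, hqM⟩) := (s4f_mem e ⟨q, hqM⟩).1 hq
    have hw1 : e ⟨q, hqM⟩ ≠ 1 := by
      intro h
      have h2 : (⟨q, hqM⟩ : M) = 1 := e.injective (by rw [h, map_one])
      exact hq1 (congrArg Subtype.val h2)
    obtain ⟨g, hg⟩ := s4f_min _ _ hv hv1 hw hw1
    have h5 : e.symm g * ⟨n, hnM⟩ * (e.symm g)⁻¹ = (⟨q, hqM⟩ : M) := by
      apply e.injective
      rw [map_mul, map_mul, map_inv, MulEquiv.apply_symm_apply, hg]
    have h6 : ((e.symm g : M) : G) * n * ((e.symm g : M) : G)⁻¹ = q := congrArg Subtype.val h5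
    rw [← h6]
    exact (mem_normalizer_iff.1 (hMN (e.symm g).2) n).1 n.2

end Cfsg.Agent.Lib.Helper41.KS18
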