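import Mathlib
import Cfsg.Agent.Lib.Helper38.ZassD

set_option autoImplicit false

namespace Cfsg.Agent.Lib.Helper41

open Subgroup Cfsg.Agent.Lib.Helper61.Zass
open scoped commutatorElement

section

variable {H : Type*} [Group H]

/-- proper normal subgroups of the minimal non-abelian normal subgroup are central in it. -/
theorem central_of_proper
    (A : Subgroup H) (hAn : A.Normal) (hAc : IsMulCommutative A)
    (hAmax : ∀ B : Subgroup H, B.Normal → IsMulCommutative B → A ≤ B → B = A)
    (N : Subgroup H) (hNle : N ≤ centralizer (A : Set H))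
    (hNmin : ∀ M : Subgroup H, M.Normal → M ≤ N → ¬ IsMulCommutative M → M = N)
    (M : Subgroup H) (hMn : M.Normal) (hMle : M ≤ N) (hMne : M ≠ N) :
    ∀ m ∈ M, ∀ n ∈ N, m * n = n * m := by
  have hMc : IsMulCommutative M := by
    by_contra hcon
    exact hMne (hNmin M hMn hMle hcon)
  have hMA : M ≤ centralizer (A : Set H) := hMle.trans hNle
  have hAM : A ≤ centralizer (M : Set H) := le_centralizer_iff.mp hMA
  have hsup : IsMulCommutative (M ⊔ A : Subgroup H) := by
    rw [← le_centralizer_iff_isMulCommutative]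
    apply sup_le
    · rw [le_centralizer_iff]
      exact sup_le (le_centralizer_iff_isMulCommutative.mpr hMc) hAM
    · rw [le_centralizer_iff]
      exact sup_le hMA (le_centralizer_iff_isMulCommutative.mpr hAc)
  have h1 : M ⊔ A = A := hAmax _ inferInstance hsup le_sup_right
  have hMleA : M ≤ A := h1 ▸ le_sup_left
  intro m hm n hn
  exact (mem_centralizer_iff.mp (hNle hn)) m (hMleA hm)

theorem quat_inv_a {n : ℕ} (i : ZMod (2 * n)) :
    (QuaternionGroup.a i)⁻¹ = QuaternionGroup.a (-i) := rfl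

theorem quat_inv_xa {n : ℕ} (i : ZMod (2 * n)) :
    (QuaternionGroup.xa i)⁻¹ = QuaternionGroup.xa ((n : ZMod (2 * n)) + i) := rfl

theorem quaternion_class_two (n : ℕ)
    (h : ∀ x y w : QuaternionGroup (2 ^ n), ⁅x, y⁆ * w = w * ⁅x, y⁆) : n ≤ 1 := by
  have h1 := h (QuaternionGroup.a 1) (QuaternionGroup.xa 0) (QuaternionGroup.xa 0)
  simp only [commutatorElement_def, QuaternionGroup.a_mul_xa, QuaternionGroup.xa_mul_a,
    QuaternionGroup.xa_mul_xa, quat_inv_a, quat_inv_xa,
    QuaternionGroup.xa.injEq] at h1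
  have h2 : ((4 : ℕ) : ZMod (2 * 2 ^ n)) = 0 := by
    have h3 : (2 : ZMod (2 * 2 ^ n)) * ((2 ^ n : ℕ) : ZMod (2 * 2 ^ n)) = 0 := by
      have := ZMod.natCast_self (2 * 2 ^ n)
      push_cast at this ⊢
      exact this
    push_cast at h3 h1 ⊢
    linear_combination (-1 : ZMod (2 * 2 ^ n)) * h1 - 2 * h3
  rw [ZMod.natCast_eq_zero_iff] at h2
  by_contra hn
  push Not at hn
  have h4 : 2 * 2 ^ 2 ≤ 2 * 2 ^ n := Nat.mul_le_mul_left 2 (Nat.pow_le_pow_right (by norm_num) hn)
  have := Nat.le_of_dvd (by norm_num) h2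
  omega

variable [Finite H]

theorem min_nonabelian_q8 (hFR : HasFreeRep H) [Group.IsSolvable H]
    (A : Subgroup H) (hAn : A.Normal) (hAc : IsMulCommutative A)
    (hAmax : ∀ B : Subgroup H, B.Normal → IsMulCommutative B → A ≤ B → B = A)
    (N : Subgroup H) (hNn : N.Normal) (hNle : N ≤ centralizer (A : Set H))
    (hNna : ¬ IsMulCommutative N)
    (hNmin : ∀ M : Subgroup H, M.Normal → M ≤ N → ¬ IsMulCommutative M → M = N) :
    Nonempty (N ≃* QuaternionGroup 2) := by
  have hcp := central_of_proper A hAn hAc hAmax N hNle hNmin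
  have hNbot : N ≠ ⊥ := by
    rintro rfl
    exact hNna inferInstance
  -- the derived group is central
  have hder : ∀ m ∈ ⁅N, N⁆, ∀ n ∈ N, m * n = n * m :=
    hcp ⁅N, N⁆ inferInstance (commutator_le_left N N)
      (Group.IsSolvable.commutator_lt_of_ne_bot hNbot).ne
  have hnil : Group.IsNilpotent N := by
    rw [isNilpotent_iff_lowerCentralSeries]
    refine ⟨2, ?_⟩
    rw [Subgroup.lowerCentralSeries_succ, Subgroup.lowerCentralSeries_succ,
      Subgroup.lowerCentralSeries_zero, commutator_eq_bot_iff_le_centralizer]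
    intro m hm
    rw [mem_centralizer_iff]
    intro n hn
    exact (hder m hm n hn).symm
  -- a prime dividing the index of the centre
  have hcen : (center N).index ≠ 1 := by
    intro h1
    rw [index_eq_one] at h1
    apply hNna
    refine ⟨⟨fun a b => ?_⟩⟩
    have : b ∈ center N := h1 ▸ mem_top b
    exact mem_center_iff.mp this a
  obtain ⟨q, hq, hqd⟩ := Nat.exists_prime_and_dvd hcen
  have : Fact q.Prime := ⟨hq⟩
  obtain ⟨P⟩ : Nonempty (Sylow q N) := inferInstance
  have hPn : (P : Subgroup N).Normal := inferInstance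
  have hPc : (P : Subgroup N).Characteristic := P.characteristic_of_normal hPn
  have hPH : ((P : Subgroup N).map N.subtype).Normal := inferInstance
  have hPtop : (P : Subgroup N).map N.subtype = N := by
    by_contra hne
    have h1 := hcp _ hPH (map_subtype_le _) hne
    have h2 : (P : Subgroup N) ≤ center N := by
      intro x hx
      rw [mem_center_iff]
      intro y
      exact Subtype.ext (h1 x ⟨x, hx, rfl⟩ y y.2).symm
    exact P.not_dvd_index (hqd.trans (index_dvd_of_le h2))
  have hpg : IsPGroup q N := by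
    intro g
    have hg : (g : H) ∈ (P : Subgroup N).map N.subtype := by rw [hPtop]; exact g.2
    obtain ⟨g', hg', hgg⟩ := hg
    have : g' = g := Subtype.ext hgg
    subst this
    obtain ⟨k, hk⟩ := P.isPGroup' ⟨g', hg'⟩
    exact ⟨k, congrArg Subtype.val hk⟩
  rcases Cfsg.Agent.Lib.Helper38.Zass.pgroup_structure (hFR.subgroup N) q hpg with hc | ⟨n, ⟨e⟩⟩
  · exfalso
    apply hNna
    obtain ⟨g, hg⟩ := hc
    refine ⟨⟨fun a b => ?_⟩⟩
    obtain ⟨k, rfl⟩ := mem_zpowers_iff.mp (hg a)
    obtain ⟨l, rfl⟩ := mem_zpowers_iff.mp (hg b)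
    rw [← zpow_add, ← zpow_add, add_comm]
  have hn1 : n ≤ 1 := by
    apply quaternion_class_two
    intro x y w
    have h1 : ((⁅e.symm x, e.symm y⁆ : N) : H) ∈ ⁅N, N⁆ := by
      have : ((⁅e.symm x, e.symm y⁆ : N) : H) = ⁅((e.symm x : N) : H), ((e.symm y : N) : H)⁆ := by
        simp [commutatorElement_def]
      rw [this]
      exact commutator_mem_commutator (e.symm x).2 (e.symm y).2
    have h2 : (⁅e.symm x, e.symm y⁆ : N) * e.symm w = e.symm w * ⁅e.symm x, e.symm y⁆ :=
      Subtype.ext (hder _ h1 _ (e.symm w).2)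
    have h3 := congrArg e h2
    simpa [commutatorElement_def] using h3
  have hn0 : n ≠ 0 := by
    rintro rfl
    apply hNna
    have hc : IsCyclic (QuaternionGroup (2 ^ 0)) := QuaternionGroup.quaternionGroup_one_isCyclic
    obtain ⟨g, hg⟩ := hc
    refine ⟨⟨fun a b => ?_⟩⟩
    apply e.injective
    rw [map_mul, map_mul]
    obtain ⟨k, hk⟩ := mem_zpowers_iff.mp (hg (e a))
    obtain ⟨l, hl⟩ := mem_zpowers_iff.mp (hg (e b))
    rw [← hk, ← hl, ← zpow_add, ← zpow_add, add_comm]
  have : n = 1 := by omega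
  subst this
  exact ⟨e⟩

end

end Cfsg.Agent.Lib.Helper41
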