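import Mathlib
import Cfsg.Agent.Lib.Helper1.Fpf2

set_option autoImplicit false

namespace Cfsg.Agent.Lib.Helper41

open Subgroup

variable {p : ℕ} [Fact p.Prime] {V : Type*} [AddCommGroup V] [Module (ZMod p) V]

/-- linear automorphisms as automorphisms of the multiplicative copy. -/
def linToMulAut : (V ≃ₗ[ZMod p] V) →* MulAut (Multiplicative V) where
  toFun e := AddEquiv.toMultiplicative e.toAddEquiv
  map_one' := by ext; rfl
  map_mul' := by intros; ext; rfl

instance finite_linEquiv [Finite V] : Finite (V ≃ₗ[ZMod p] V) :=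
  Finite.of_injective (fun e => (e : V → V)) DFunLike.coe_injective

theorem card_dvd_of_free {α β : Type*} [Group α] [MulAction α β]
    (h : ∀ b : β, MulAction.stabilizer α b = ⊥) : Nat.card α ∣ Nat.card β := by
  have e := MulAction.selfEquivOrbitsQuotientProd (G := α) (X := β) h
  rw [Nat.card_congr e, Nat.card_prod]
  exact Dvd.intro_left _ rfl

variable (H : Subgroup (V ≃ₗ[ZMod p] V))

/-- regularity on nonzero vectors. -/
def RegOn : Prop := ∀ v w : V, v ≠ 0 → w ≠ 0 → ∃! h : H, (h : V ≃ₗ[ZMod p] V) v = w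

variable {H}

theorem RegOn.fpf (hreg : RegOn H) {h : H} (hne : h ≠ 1) {v : V}
    (hv : (h : V ≃ₗ[ZMod p] V) v = v) : v = 0 := by
  by_contra hv0
  exact hne ((hreg v v hv0 hv0).unique hv rfl)

theorem RegOn.isCyclic [Finite V] [Nontrivial V] (hreg : RegOn H) (A : Subgroup H)
    (hAc : IsMulCommutative A) : IsCyclic A := by
  apply Cfsg.Agent.Lib.Helper1.fpf_isCyclic_of_comm (V := Multiplicative V)
    ((linToMulAut.comp H.subtype).comp A.subtype)
  · intro a ha v hv
    have h1 : (a : H) ≠ 1 := fun h => ha (Subtype.ext h)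
    have h2 : ((a : H) : V ≃ₗ[ZMod p] V) (Multiplicative.toAdd v) = Multiplicative.toAdd v := hv
    have := hreg.fpf h1 h2
    exact this
  · intro a b
    exact hAc.is_comm.comm a b

/-- the nonzero vectors of an invariant subspace. -/
def nzSet (W : Submodule (ZMod p) V) : Type _ := {v : V // v ∈ W ∧ v ≠ 0}

theorem card_nzSet [Finite V] (W : Submodule (ZMod p) V) :
    Nat.card (nzSet W) = p ^ Module.finrank (ZMod p) W - 1 := by
  have h1 : Nat.card W = p ^ Module.finrank (ZMod p) W := by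
    rw [Module.natCard_eq_pow_finrank (K := ZMod p) (V := W), Nat.card_zmod]
  have e : nzSet W ≃ {w : W // w ≠ 0} :=
    { toFun := fun x => ⟨⟨x.1, x.2.1⟩, fun h => x.2.2 (congrArg Subtype.val h)⟩
      invFun := fun x => ⟨x.1.1, x.1.2, fun h => x.2 (Subtype.ext h)⟩
      left_inv := fun _ => rfl
      right_inv := fun _ => rfl }
  rw [Nat.card_congr e, ← h1]
  classical
  haveI := Fintype.ofFinite W
  rw [Nat.card_eq_fintype_card, Nat.card_eq_fintype_card, Fintype.card_subtype_compl,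
    Fintype.card_subtype_eq]

theorem RegOn.card_dvd [Finite V] (hreg : RegOn H) (A : Subgroup H) (W : Submodule (ZMod p) V)
    (hW : ∀ a ∈ A, ∀ v ∈ W, ((a : H) : V ≃ₗ[ZMod p] V) v ∈ W) :
    Nat.card A ∣ p ^ Module.finrank (ZMod p) W - 1 := by
  rw [← card_nzSet W]
  letI : MulAction A (nzSet W) :=
    { smul := fun a x => ⟨((a : H) : V ≃ₗ[ZMod p] V) x.1, hW a a.2 _ x.2.1, fun h => x.2.2 (by
        simpa using h)⟩
      one_smul := fun x => Subtype.ext rfl
      mul_smul := fun a b x => Subtype.ext rfl }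
  apply card_dvd_of_free
  intro x
  rw [eq_bot_iff]
  intro a ha
  rw [MulAction.mem_stabilizer_iff] at ha
  have h1 : ((a : H) : V ≃ₗ[ZMod p] V) x.1 = x.1 := congrArg Subtype.val ha
  by_contra hne
  have h2 : (a : H) ≠ 1 := fun h => hne (by rw [mem_bot]; exact Subtype.ext h)
  exact x.2.2 (hreg.fpf h2 h1)

theorem exists_min_invariant [Finite V] (P : (V ≃ₗ[ZMod p] V) → Prop) (W₀ : Submodule (ZMod p) V)
    (h0 : W₀ ≠ ⊥) (hinv : ∀ a, P a → ∀ v ∈ W₀, a v ∈ W₀) :
    ∃ W : Submodule (ZMod p) V, W ≤ W₀ ∧ W ≠ ⊥ ∧ (∀ a, P a → ∀ v ∈ W, a v ∈ W) ∧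
      ∀ W' : Submodule (ZMod p) V, W' ≤ W → (∀ a, P a → ∀ v ∈ W', a v ∈ W') →
        W' = ⊥ ∨ W' = W := by
  have hfin : Finite (Submodule (ZMod p) V) :=
    Finite.of_injective (fun W => (W : Set V)) SetLike.coe_injective
  let T : Set (Submodule (ZMod p) V) :=
    {W | W ≤ W₀ ∧ W ≠ ⊥ ∧ (∀ a, P a → ∀ v ∈ W, a v ∈ W)}
  have hT : T.Nonempty := ⟨W₀, le_rfl, h0, hinv⟩
  obtain ⟨W, hW⟩ := (Set.toFinite T).exists_minimal hT
  refine ⟨W, hW.prop.1, hW.prop.2.1, hW.prop.2.2, ?_⟩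
  intro W' hle hinv'
  by_cases hb : W' = ⊥
  · exact Or.inl hb
  · right
    have : W' ∈ T := ⟨hle.trans hW.prop.1, hb, hinv'⟩
    exact le_antisymm hle (hW.le_of_le this hle)

end Cfsg.Agent.Lib.Helper41
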