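import Mathlib
import Cfsg.Agent.Lib.Helper41.RegLin

set_option autoImplicit false

namespace Cfsg.Agent.Lib.Helper41

open Subgroup

theorem card_le_sq_of_cyclic_selfcentralizing {G : Type*} [Group G] [Finite G] (A : Subgroup G)
    [A.Normal] [IsCyclic A] (hC : centralizer (A : Set G) = A) :
    Nat.card G ≤ Nat.card A * Nat.card A := by
  have hker : (MulAut.conjNormal (H := A)).ker = A := by
    refine Eq.trans ?_ hC
    ext g
    rw [MonoidHom.mem_ker, mem_centralizer_iff]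
    constructor
    · intro h x hx
      have := congrArg (fun f : MulAut A => ((f ⟨x, hx⟩ : A) : G)) h
      simp only [MulAut.conjNormal_apply, MulAut.one_apply] at this
      calc x * g = (g * x * g⁻¹) * g := by rw [this]
        _ = g * x := by group
    · intro h
      ext x
      rw [MulAut.conjNormal_apply, MulAut.one_apply, ← h x x.2]; group
  have h1 : A.index ≤ Nat.card A := by
    have h0 : A.index = (MulAut.conjNormal (H := A)).ker.index := by rw [hker]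
    rw [h0, Subgroup.index_ker]
    calc Nat.card (MulAut.conjNormal (H := A)).range ≤ Nat.card (MulAut A) :=
          Subgroup.card_le_card_group _
      _ = Nat.totient (Nat.card A) := IsCyclic.card_mulAut A
      _ ≤ Nat.card A := Nat.totient_le _
  rw [← Subgroup.card_mul_index A]
  exact Nat.mul_le_mul_left _ h1

variable {p : ℕ} [Fact p.Prime] {V : Type*} [AddCommGroup V] [Module (ZMod p) V]
variable {H : Subgroup (V ≃ₗ[ZMod p] V)}

theorem RegOn.card_le [Finite V] (hreg : RegOn H) {v₀ : V} (hv₀ : v₀ ≠ 0) :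
    Nat.card V ≤ Nat.card H + 1 := by
  rw [← Finite.card_option]
  apply Nat.card_le_card_of_surjective
    (fun o : Option H => o.elim 0 (fun h => (h : V ≃ₗ[ZMod p] V) v₀))
  intro w
  by_cases hw : w = 0
  · exact ⟨none, hw.symm⟩
  · obtain ⟨h, hh, -⟩ := hreg v₀ w hv₀ hw
    exact ⟨some h, hh⟩

theorem RegOn.card_succ_le [Finite V] (hreg : RegOn H) (A : Subgroup H)
    (W : Submodule (ZMod p) V) (hWb : W ≠ ⊥)
    (hW : ∀ a ∈ A, ∀ v ∈ W, ((a : H) : V ≃ₗ[ZMod p] V) v ∈ W) :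
    Nat.card A + 1 ≤ Nat.card W := by
  obtain ⟨w₀, hw₀, hne⟩ := Submodule.exists_mem_ne_zero_of_ne_bot hWb
  rw [← Finite.card_option]
  apply Nat.card_le_card_of_injective
    (fun o : Option A => o.elim (0 : W) (fun a => ⟨((a : H) : V ≃ₗ[ZMod p] V) w₀, hW a a.2 _ hw₀⟩))
  have hnz : ∀ a : A, ((a : H) : V ≃ₗ[ZMod p] V) w₀ ≠ 0 := fun a h => hne (by simpa using h)
  intro x y hxy
  rcases x with _ | a <;> rcases y with _ | b
  · rfl
  · exact absurd (congrArg Subtype.val hxy).symm (hnz b)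
  · exact absurd (congrArg Subtype.val hxy) (hnz a)
  · have h1 : ((a : H) : V ≃ₗ[ZMod p] V) w₀ = ((b : H) : V ≃ₗ[ZMod p] V) w₀ :=
      congrArg Subtype.val hxy
    have := (hreg w₀ _ hne (hnz b)).unique h1 rfl
    rw [Subtype.ext this]

theorem RegOn.sq_le [Finite V] (hreg : RegOn H) (A : Subgroup H) [A.Normal]
    (W : Submodule (ZMod p) V) (hWb : W ≠ ⊥) (hWt : W ≠ ⊤)
    (hW : ∀ a ∈ A, ∀ v ∈ W, ((a : H) : V ≃ₗ[ZMod p] V) v ∈ W)
    (hmin : ∀ W' : Submodule (ZMod p) V, W' ≤ W →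
      (∀ a ∈ A, ∀ v ∈ W', ((a : H) : V ≃ₗ[ZMod p] V) v ∈ W') → W' = ⊥ ∨ W' = W) :
    Nat.card W * Nat.card W ≤ Nat.card V := by
  obtain ⟨w₀, hw₀, hne⟩ := Submodule.exists_mem_ne_zero_of_ne_bot hWb
  obtain ⟨v₀, hv₀⟩ : ∃ v₀ : V, v₀ ∉ W := by
    by_contra hcon
    push Not at hcon
    exact hWt (eq_top_iff.mpr fun x _ => hcon x)
  have hv₀ne : v₀ ≠ 0 := fun h => hv₀ (h ▸ W.zero_mem)
  obtain ⟨h, hh, -⟩ := hreg w₀ v₀ hne hv₀ne
  -- the translate
  let W2 : Submodule (ZMod p) V := W.map ((h : V ≃ₗ[ZMod p] V) : V →ₗ[ZMod p] V)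
  have hW2 : ∀ a ∈ A, ∀ v ∈ W2, ((a : H) : V ≃ₗ[ZMod p] V) v ∈ W2 := by
    rintro a ha _ ⟨x, hx, rfl⟩
    have hc : h⁻¹ * a * h ∈ A := by
      have := (inferInstance : A.Normal).conj_mem a ha h⁻¹
      simpa using this
    refine ⟨((h⁻¹ * a * h : H) : V ≃ₗ[ZMod p] V) x, hW _ hc x hx, ?_⟩
    have : (h : V ≃ₗ[ZMod p] V) * ((h⁻¹ * a * h : H) : V ≃ₗ[ZMod p] V)
        = (a : V ≃ₗ[ZMod p] V) * (h : V ≃ₗ[ZMod p] V) := by
      rw [← Subgroup.coe_mul, ← Subgroup.coe_mul]; congr 1; group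
    exact congrArg (fun e : V ≃ₗ[ZMod p] V => e x) this
  have hint : W ⊓ W2 = ⊥ := by
    rcases hmin (W ⊓ W2) inf_le_left
      (fun a ha v hv => ⟨hW a ha v hv.1, hW2 a ha v hv.2⟩) with h0 | h0
    · exact h0
    · exfalso
      have hle : W ≤ W2 := inf_eq_left.mp h0
      have hcard : Nat.card W2 = Nat.card W := by
        refine (Nat.card_congr ?_).symm
        exact ((h : V ≃ₗ[ZMod p] V).submoduleMap W).toEquiv
      have heq : W = W2 := by
        apply SetLike.coe_injective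
        apply Set.eq_of_subset_of_ncard_le hle _ (Set.toFinite _)
        rw [← Nat.card_coe_set_eq, ← Nat.card_coe_set_eq]
        exact hcard.le
      apply hv₀
      rw [heq, ← hh]
      exact ⟨w₀, hw₀, rfl⟩
  rw [← Nat.card_prod]
  apply Nat.card_le_card_of_injective
    (fun x : W × W => (x.1 : V) + (h : V ≃ₗ[ZMod p] V) (x.2 : V))
  rintro ⟨x1, y1⟩ ⟨x2, y2⟩ hxy
  simp only at hxy
  have h1 : (x1 : V) - x2 = (h : V ≃ₗ[ZMod p] V) ((y2 : V) - y1) := by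
    rw [map_sub, sub_eq_sub_iff_add_eq_add, hxy, add_comm]
  have h2 : (x1 : V) - x2 ∈ W ⊓ W2 :=
    ⟨W.sub_mem x1.2 x2.2, h1 ▸ ⟨_, W.sub_mem y2.2 y1.2, rfl⟩⟩
  rw [hint, Submodule.mem_bot] at h2
  have h3 : (y2 : V) - y1 = 0 := by
    rw [h2] at h1
    exact (LinearEquiv.map_eq_zero_iff _).mp h1.symm
  ext
  · exact sub_eq_zero.mp h2
  · exact (sub_eq_zero.mp h3).symm

theorem RegOn.centralizer_ne [Finite V] (hreg : RegOn H) (A : Subgroup H) [A.Normal] [IsCyclic A]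
    (W₀ : Submodule (ZMod p) V) (hWb : W₀ ≠ ⊥) (hWt : W₀ ≠ ⊤)
    (hW : ∀ a ∈ A, ∀ v ∈ W₀, ((a : H) : V ≃ₗ[ZMod p] V) v ∈ W₀) :
    centralizer (A : Set H) ≠ A := by
  intro hC
  obtain ⟨W, hle, hb, hinv, hmin⟩ := exists_min_invariant
    (fun e : V ≃ₗ[ZMod p] V => ∃ a ∈ A, ((a : H) : V ≃ₗ[ZMod p] V) = e) W₀ hWb
    (by rintro _ ⟨a, ha, rfl⟩ v hv; exact hW a ha v hv)
  have hinv' : ∀ a ∈ A, ∀ v ∈ W, ((a : H) : V ≃ₗ[ZMod p] V) v ∈ W :=
    fun a ha v hv => hinv _ ⟨a, ha, rfl⟩ v hv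
  have ht : W ≠ ⊤ := by
    rintro rfl
    exact hWt (top_le_iff.mp hle)
  have hmin' : ∀ W' : Submodule (ZMod p) V, W' ≤ W →
      (∀ a ∈ A, ∀ v ∈ W', ((a : H) : V ≃ₗ[ZMod p] V) v ∈ W') → W' = ⊥ ∨ W' = W :=
    fun W' hle' hinv'' =>
      hmin W' hle' (by rintro _ ⟨a, ha, rfl⟩ v hv; exact hinv'' a ha v hv)
  obtain ⟨w₀, -, hne⟩ := Submodule.exists_mem_ne_zero_of_ne_bot hb
  have e1 := hreg.card_le hne
  have e2 := card_le_sq_of_cyclic_selfcentralizing A hC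
  have e3 := hreg.card_succ_le A W hb hinv'
  have e4 := hreg.sq_le A W hb ht hinv' hmin'
  have e5 : 0 < Nat.card A := Nat.card_pos
  nlinarith

end Cfsg.Agent.Lib.Helper41
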