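import Mathlib
import Cfsg.Agent.Lib.Helper41.RegLin

set_option autoImplicit false

namespace Cfsg.Agent.Lib.Helper41

open Subgroup

variable {p : ℕ} [Fact p.Prime] {V : Type*} [AddCommGroup V] [Module (ZMod p) V]

instance finite_linEnd [Finite V] : Finite (Module.End (ZMod p) V) :=
  Finite.of_injective (fun e => (e : V → V)) DFunLike.coe_injective

/-- A subalgebra of `End V` all of whose nonzero elements are injective is commutative
(Wedderburn). -/
theorem comm_of_injective [Finite V] (D : Subalgebra (ZMod p) (Module.End (ZMod p) V))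
    (h : ∀ x ∈ D, ∀ u : V, u ≠ 0 → x u = 0 → x = 0) :
    ∀ x ∈ D, ∀ y ∈ D, x * y = y * x := by
  rcases subsingleton_or_nontrivial V with hs | hn
  · intro x _ y _
    ext v
    exact Subsingleton.elim _ _
  have hnt : Nontrivial D := by
    refine ⟨0, 1, ?_⟩
    intro h01
    have h2 : (0 : Module.End (ZMod p) V) = 1 := congrArg Subtype.val h01
    obtain ⟨v, hv⟩ := exists_ne (0 : V)
    apply hv
    have := congrArg (fun f : Module.End (ZMod p) V => f v) h2
    simpa using this.symm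
  have hnz : NoZeroDivisors D := by
    refine ⟨?_⟩
    intro a b hab
    by_cases hb : b = 0
    · exact Or.inr hb
    left
    have hb' : (b : Module.End (ZMod p) V) ≠ 0 := fun h0 => hb (Subtype.ext h0)
    obtain ⟨v, hv⟩ : ∃ v, (b : Module.End (ZMod p) V) v ≠ 0 := by
      by_contra hcon
      push Not at hcon
      exact hb' (LinearMap.ext hcon)
    have h1 : (a : Module.End (ZMod p) V) ((b : Module.End (ZMod p) V) v) = 0 := by
      have := congrArg (fun f : D => (f : Module.End (ZMod p) V) v) hab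
      simpa using this
    exact Subtype.ext (h a a.2 _ hv h1)
  have hdom : IsDomain D := NoZeroDivisors.to_isDomain D
  have hf := Finite.isDomain_to_isField D
  intro x hx y hy
  exact congrArg Subtype.val (hf.mul_comm ⟨x, hx⟩ ⟨y, hy⟩)

variable {H : Subgroup (V ≃ₗ[ZMod p] V)}

/-- the spread argument. -/
theorem RegOn.eq_zero_of_normalized [Finite V] (hreg : RegOn H)
    (D : Subalgebra (ZMod p) (Module.End (ZMod p) V))
    (hconj : ∀ h : H, ∀ x ∈ D, ((h : V ≃ₗ[ZMod p] V).symm : V →ₗ[ZMod p] V) ∘ₗ x ∘ₗ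
      ((h : V ≃ₗ[ZMod p] V) : V →ₗ[ZMod p] V) ∈ D)
    (W : Submodule (ZMod p) V) (hWb : W ≠ ⊥) (hWt : W ≠ ⊤) (hW : ∀ x ∈ D, ∀ w ∈ W, x w ∈ W) :
    ∀ x ∈ D, ∀ u : V, u ≠ 0 → x u = 0 → x = 0 := by
  let S : V → Set V := fun v => {y | ∃ x ∈ D, x v = y}
  have hself : ∀ v, v ∈ S v := fun v => ⟨1, D.one_mem, rfl⟩
  have hcard : ∀ u v : V, u ≠ 0 → v ≠ 0 → (S v).ncard ≤ (S u).ncard := by
    intro u v hu hv
    obtain ⟨h, hh, -⟩ := hreg u v hu hv
    have hsub : S v ⊆ (fun y => (h : V ≃ₗ[ZMod p] V) y) '' S u := by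
      rintro _ ⟨x, hx, rfl⟩
      refine ⟨_, ⟨_, hconj h x hx, rfl⟩, ?_⟩
      simp [hh]
    exact (Set.ncard_le_ncard hsub (Set.toFinite _)).trans (Set.ncard_image_le (Set.toFinite _))
  have hsubS : ∀ u v : V, u ∈ S v → S u ⊆ S v := by
    rintro _ v ⟨x, hx, rfl⟩ _ ⟨y, hy, rfl⟩
    exact ⟨y * x, D.mul_mem hy hx, rfl⟩
  have heqS : ∀ u v : V, u ≠ 0 → v ≠ 0 → u ∈ S v → S u = S v := fun u v hu hv huv =>
    Set.eq_of_subset_of_ncard_le (hsubS u v huv) (hcard u v hu hv) (Set.toFinite _)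
  -- no `S u` is everything
  obtain ⟨w₀, hw₀, hne⟩ := Submodule.exists_mem_ne_zero_of_ne_bot hWb
  have hprop : ∀ u : V, u ≠ 0 → ∃ v, v ∉ S u := by
    intro u hu
    by_contra hcon
    push Not at hcon
    have h1 : S w₀ = S u := heqS w₀ u hne hu (hcon w₀)
    apply hWt
    rw [eq_top_iff]
    intro y _
    have : y ∈ S w₀ := h1 ▸ hcon y
    obtain ⟨x, hx, rfl⟩ := this
    exact hW x hx _ hw₀
  -- step (c)
  have hc : ∀ x ∈ D, ∀ u v : V, u ≠ 0 → x u = 0 → v ∉ S u → x v = 0 := by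
    intro x hx u v hu hxu hv
    by_contra hxv
    have hv0 : v ≠ 0 := by
      rintro rfl
      exact hxv (map_zero x)
    have huv : u + v ≠ 0 := by
      intro h0
      apply hv
      refine ⟨-1, D.neg_mem D.one_mem, ?_⟩
      have : v = -u := (neg_eq_of_add_eq_zero_right h0).symm
      simp [this]
    have h1 : x v ∈ S (u + v) := ⟨x, hx, by rw [map_add, hxu, zero_add]⟩
    have h2 : x v ∈ S v := ⟨x, hx, rfl⟩
    have h3 : S (u + v) = S v := (heqS _ _ hxv huv h1).symm.trans (heqS _ _ hxv hv0 h2)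
    have h4 : u + v ∈ S v := h3 ▸ hself (u + v)
    obtain ⟨y, hy, hyv⟩ := h4
    have h5 : u ∈ S v := ⟨y - 1, D.sub_mem hy D.one_mem, by
      simp [hyv]⟩
    have h6 : S u = S v := heqS u v hu hv0 h5
    exact hv (h6 ▸ hself v)
  intro x hx u hu hxu
  obtain ⟨v, hv⟩ := hprop u hu
  have hv0 : v ≠ 0 := by
    rintro rfl
    exact hv ⟨0, D.zero_mem, rfl⟩
  have hxv : x v = 0 := hc x hx u v hu hxu hv
  ext y
  by_cases hy : y ∈ S u
  · by_cases hy0 : y = 0
    · simp [hy0]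
    · apply hc x hx v y hv0 hxv
      intro hyv
      apply hv
      have : S u = S v := (heqS y u hy0 hu hy).symm.trans (heqS y v hy0 hv0 hyv)
      exact this ▸ hself v
  · exact hc x hx u y hu hxu hy

/-- the image in `End V` of a subgroup. -/
def endSet (N : Subgroup H) : Set (Module.End (ZMod p) V) :=
  {x | ∃ n ∈ N, (((n : H) : V ≃ₗ[ZMod p] V) : V →ₗ[ZMod p] V) = x}

/-- A reducible normal subgroup of a group regular on nonzero vectors is abelian. -/
theorem RegOn.comm_of_reducible [Finite V] (hreg : RegOn H) (N : Subgroup H) [N.Normal]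
    (W : Submodule (ZMod p) V) (hWb : W ≠ ⊥) (hWt : W ≠ ⊤)
    (hW : ∀ n ∈ N, ∀ v ∈ W, ((n : H) : V ≃ₗ[ZMod p] V) v ∈ W) :
    ∀ a ∈ N, ∀ b ∈ N, a * b = b * a := by
  let D : Subalgebra (ZMod p) (Module.End (ZMod p) V) := Algebra.adjoin (ZMod p) (endSet N)
  have hconj : ∀ h : H, ∀ x ∈ D, ((h : V ≃ₗ[ZMod p] V).symm : V →ₗ[ZMod p] V) ∘ₗ x ∘ₗ
      ((h : V ≃ₗ[ZMod p] V) : V →ₗ[ZMod p] V) ∈ D := by
    intro h x hx
    induction hx using Algebra.adjoin_induction with
    | mem x hx =>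
      obtain ⟨n, hn, rfl⟩ := hx
      apply Algebra.subset_adjoin
      refine ⟨h⁻¹ * n * h, ?_, ?_⟩
      · have := (inferInstance : N.Normal).conj_mem n hn h⁻¹
        simpa using this
      · ext v
        rfl
    | algebraMap r =>
      have : ((h : V ≃ₗ[ZMod p] V).symm : V →ₗ[ZMod p] V) ∘ₗ
          (algebraMap (ZMod p) (Module.End (ZMod p) V) r) ∘ₗ
          ((h : V ≃ₗ[ZMod p] V) : V →ₗ[ZMod p] V)
          = algebraMap (ZMod p) (Module.End (ZMod p) V) r := by
        ext v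
        simp [Module.algebraMap_end_apply]
      rw [this]
      exact D.algebraMap_mem r
    | add x y _ _ hx hy =>
      have : ((h : V ≃ₗ[ZMod p] V).symm : V →ₗ[ZMod p] V) ∘ₗ (x + y) ∘ₗ
          ((h : V ≃ₗ[ZMod p] V) : V →ₗ[ZMod p] V)
          = ((h : V ≃ₗ[ZMod p] V).symm : V →ₗ[ZMod p] V) ∘ₗ x ∘ₗ
          ((h : V ≃ₗ[ZMod p] V) : V →ₗ[ZMod p] V) +
          ((h : V ≃ₗ[ZMod p] V).symm : V →ₗ[ZMod p] V) ∘ₗ y ∘ₗ
          ((h : V ≃ₗ[ZMod p] V) : V →ₗ[ZMod p] V) := by
        ext v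
        simp
      rw [this]
      exact D.add_mem hx hy
    | mul x y _ _ hx hy =>
      have : ((h : V ≃ₗ[ZMod p] V).symm : V →ₗ[ZMod p] V) ∘ₗ (x * y) ∘ₗ
          ((h : V ≃ₗ[ZMod p] V) : V →ₗ[ZMod p] V)
          = (((h : V ≃ₗ[ZMod p] V).symm : V →ₗ[ZMod p] V) ∘ₗ x ∘ₗ
          ((h : V ≃ₗ[ZMod p] V) : V →ₗ[ZMod p] V)) *
          (((h : V ≃ₗ[ZMod p] V).symm : V →ₗ[ZMod p] V) ∘ₗ y ∘ₗ
          ((h : V ≃ₗ[ZMod p] V) : V →ₗ[ZMod p] V)) := by
        ext v
        simp
      rw [this]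
      exact D.mul_mem hx hy
  have hWD : ∀ x ∈ D, ∀ w ∈ W, x w ∈ W := by
    intro x hx
    induction hx using Algebra.adjoin_induction with
    | mem x hx =>
      obtain ⟨n, hn, rfl⟩ := hx
      exact fun w hw => hW n hn w hw
    | algebraMap r =>
      intro w hw
      rw [Module.algebraMap_end_apply]
      exact W.smul_mem r hw
    | add x y _ _ hx hy =>
      intro w hw
      exact W.add_mem (hx w hw) (hy w hw)
    | mul x y _ _ hx hy =>
      intro w hw
      exact hx _ (hy w hw)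
  have hcomm := comm_of_injective D (hreg.eq_zero_of_normalized D hconj W hWb hWt hWD)
  intro a ha b hb
  have h1 := hcomm _ (Algebra.subset_adjoin ⟨a, ha, rfl⟩) _ (Algebra.subset_adjoin ⟨b, hb, rfl⟩)
  apply Subtype.ext
  ext v
  exact congrArg (fun f : Module.End (ZMod p) V => f v) h1

/-- Schur: the centraliser of an irreducible subgroup is abelian. -/
theorem centralizer_comm_of_irreducible [Finite V] (N : Subgroup H)
    (hirr : ∀ W : Submodule (ZMod p) V,
      (∀ n ∈ N, ∀ v ∈ W, ((n : H) : V ≃ₗ[ZMod p] V) v ∈ W) → W = ⊥ ∨ W = ⊤) :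
    ∀ a ∈ centralizer (N : Set H), ∀ b ∈ centralizer (N : Set H), a * b = b * a := by
  let D : Subalgebra (ZMod p) (Module.End (ZMod p) V) :=
    Subalgebra.centralizer (ZMod p) (endSet N)
  have hD : ∀ x ∈ D, ∀ u : V, u ≠ 0 → x u = 0 → x = 0 := by
    intro x hx u hu hxu
    rw [Subalgebra.mem_centralizer_iff] at hx
    rcases hirr (LinearMap.ker x) (by
      intro n hn v hv
      rw [LinearMap.mem_ker] at hv ⊢
      have := congrArg (fun f : Module.End (ZMod p) V => f v) (hx _ ⟨n, hn, rfl⟩)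
      simp only [Module.End.mul_apply, hv, map_zero] at this
      exact this.symm) with h0 | h0
    · exfalso
      apply hu
      have : u ∈ LinearMap.ker x := hxu
      rwa [h0, Submodule.mem_bot] at this
    · exact LinearMap.ker_eq_top.mp h0
  have hcomm := comm_of_injective D hD
  have hmem : ∀ a ∈ centralizer (N : Set H),
      (((a : H) : V ≃ₗ[ZMod p] V) : V →ₗ[ZMod p] V) ∈ D := by
    intro a ha
    rw [Subalgebra.mem_centralizer_iff]
    rintro _ ⟨n, hn, rfl⟩
    rw [mem_centralizer_iff] at ha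
    have := ha n hn
    ext v
    exact congrArg (fun f : H => (f : V ≃ₗ[ZMod p] V) v) this
  intro a ha b hb
  have h1 := hcomm _ (hmem a ha) _ (hmem b hb)
  apply Subtype.ext
  ext v
  exact congrArg (fun f : Module.End (ZMod p) V => f v) h1

end Cfsg.Agent.Lib.Helper41
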