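import Mathlib
import Cfsg.Agent.Lib.Helper41.RegLin2
import Cfsg.Agent.Lib.Helper41.RegLin3
import Cfsg.Agent.Lib.Helper41.MinNonab
import Cfsg.Agent.Lib.Helper66.ZassC
import Cfsg.Agent.Lib.Helper38.Zass689a
import Cfsg.Agent.S3742

set_option autoImplicit false

namespace Cfsg.Agent.Lib.Helper41

open Subgroup Cfsg.Agent.Lib.Helper61.Zass

variable {p : ℕ} [Fact p.Prime] {V : Type*} [AddCommGroup V] [Module (ZMod p) V]
variable {H : Subgroup (V ≃ₗ[ZMod p] V)}

theorem RegOn.hasFreeRep [Finite V] (hreg : RegOn H) (hne : ∃ h : H, h ≠ 1) : HasFreeRep H := by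
  let φ : H →* MulAut (Multiplicative V) := linToMulAut.comp H.subtype
  have hinj : Function.Injective φ := by
    rw [injective_iff_map_eq_one]
    intro h hh
    apply Subtype.ext
    ext v
    exact congrArg (fun f : MulAut (Multiplicative V) => Multiplicative.toAdd
      (f (Multiplicative.ofAdd v))) hh
  have h1 : HasFreeRep φ.range := by
    apply Cfsg.Agent.Lib.Helper66.Zass.hasFreeRep_of_fpf
    · rintro _ ⟨h, rfl⟩ hne1 k hk
      have hh : h ≠ 1 := by
        rintro rfl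
        exact hne1 (map_one φ)
      have h2 : (h : V ≃ₗ[ZMod p] V) (Multiplicative.toAdd k) = Multiplicative.toAdd k := hk
      exact hreg.fpf hh h2
    · obtain ⟨h, hh⟩ := hne
      intro hbot
      apply hh
      apply hinj
      have : φ h ∈ φ.range := ⟨h, rfl⟩
      rw [hbot, mem_bot] at this
      rw [this, map_one]
  exact h1.of_injective φ.rangeRestrict (by
    intro a b hab
    exact hinj (congrArg Subtype.val hab))

theorem RegOn.card_eq [Finite V] [Nontrivial V] (hreg : RegOn H) :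
    Nat.card H + 1 = Nat.card V := by
  obtain ⟨v₀, hv₀⟩ := exists_ne (0 : V)
  apply le_antisymm _ (hreg.card_le hv₀)
  have h1 := hreg.card_succ_le ⊤ ⊤ (by simp) (fun _ _ _ _ => Submodule.mem_top)
  rw [Subgroup.card_top] at h1
  refine h1.trans (le_of_eq ?_)
  exact Nat.card_congr (Submodule.topEquiv (R := ZMod p) (M := V)).toEquiv

/-- an involution acts as `-1`. -/
theorem RegOn.invol_apply (hreg : RegOn H) {z : H} (hz1 : z ≠ 1) (hzz : z * z = 1) (v : V) :
    (z : V ≃ₗ[ZMod p] V) v = -v := by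
  have h1 : (z : V ≃ₗ[ZMod p] V) ((z : V ≃ₗ[ZMod p] V) v) = v :=
    congrArg (fun f : H => (f : V ≃ₗ[ZMod p] V) v) hzz
  have h2 : (z : V ≃ₗ[ZMod p] V) ((z : V ≃ₗ[ZMod p] V) v + v) = (z : V ≃ₗ[ZMod p] V) v + v := by
    rw [map_add, h1, add_comm]
  exact eq_neg_of_add_eq_zero_left (hreg.fpf hz1 h2)

theorem arith688 {Q a t : ℕ} (hQ : 2 ≤ Q) (ha : a ∣ Q - 1) (ht : t ∣ 24) (h8 : 8 ∣ a * t)
    (h : a * t + 1 = Q ^ 2) : Q = 3 ∨ Q = 5 ∨ Q = 7 ∨ Q = 11 ∨ Q = 23 := by
  obtain ⟨e, he⟩ := ha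
  have ha0 : 0 < a := by
    rcases Nat.eq_zero_or_pos a with h0 | h0
    · rw [h0] at he; omega
    · exact h0
  have hQe : Q = a * e + 1 := by omega
  have h1 : a * t = a * (e * (Q + 1)) := by
    have : a * t + 1 = (a * e + 1) * Q := by rw [h, ← hQe]; ring
    have h2 : (a * e + 1) * Q = a * (e * (Q + 1)) + 1 := by
      calc (a * e + 1) * Q = a * e * Q + Q := by ring
        _ = a * e * Q + (a * e + 1) := by rw [← hQe]
        _ = a * (e * (Q + 1)) + 1 := by ring
    omega
  have h2 : t = e * (Q + 1) := Nat.eq_of_mul_eq_mul_left ha0 h1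
  have h3 : Q + 1 ∣ 24 := (Dvd.intro_left e h2.symm).trans ht
  have h4 : Q + 1 ≤ 24 := Nat.le_of_dvd (by norm_num) h3
  have h5 : 8 ∣ Q ^ 2 - 1 := by
    have : Q ^ 2 - 1 = a * t := by omega
    rw [this]; exact h8
  have h6 : Q ≤ 23 := by omega
  clear h h1 h2 hQe he h8 h4
  interval_cases Q <;> omega

theorem conjNormal_ker_eq {G : Type*} [Group G] (A : Subgroup G) [A.Normal] :
    (MulAut.conjNormal (H := A)).ker = centralizer (A : Set G) := by
  ext g
  rw [MonoidHom.mem_ker, mem_centralizer_iff]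
  constructor
  · intro h x hx
    have := congrArg (fun f : MulAut A => ((f ⟨x, hx⟩ : A) : G)) h
    simp only [MulAut.conjNormal_apply, MulAut.one_apply] at this
    calc x * g = (g * x * g⁻¹) * g := by rw [this]
      _ = g * x := by group
  · intro h
    ext x
    rw [MulAut.conjNormal_apply, MulAut.one_apply, ← h x x.2]; group

theorem index_centralizer_q8_dvd {G : Type*} [Group G] [Finite G] (N : Subgroup G) [N.Normal]
    (e : N ≃* QuaternionGroup 2) : (centralizer (N : Set G)).index ∣ 24 := by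
  rw [← conjNormal_ker_eq, Subgroup.index_ker]
  have h24 : Nat.card (MulAut N) = 24 := by
    obtain ⟨f⟩ := Cfsg.Agent.S3742.result
    rw [Nat.card_congr (MulAut.congr e).toEquiv, Nat.card_congr f.toEquiv,
      Nat.card_eq_fintype_card, Fintype.card_perm, Fintype.card_fin]
    rfl
  rw [← h24]
  exact Subgroup.card_subgroup_dvd_card _

theorem RegOn.solvable_card [Finite V] (hreg : RegOn H)
    (hI : ∀ A : Subgroup H, A.Normal → IsCyclic A → ∃ W : Submodule (ZMod p) V, W ≠ ⊥ ∧ W ≠ ⊤ ∧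
      ∀ a ∈ A, ∀ v ∈ W, ((a : H) : V ≃ₗ[ZMod p] V) v ∈ W)
    [Group.IsSolvable H] :
    Nat.card V = 25 ∨ Nat.card V = 49 ∨ Nat.card V = 121 ∨ Nat.card V = 529 := by
  obtain ⟨W1, hW1b, hW1t, -⟩ := hI ⊥ inferInstance inferInstance
  have hnt : Nontrivial V := by
    by_contra hnt
    rw [not_nontrivial_iff_subsingleton] at hnt
    exact hW1b (Subsingleton.elim _ _)
  -- the maximal normal abelian subgroup
  obtain ⟨A, hA⟩ := (Set.toFinite {B : Subgroup H | B.Normal ∧ IsMulCommutative B}).exists_maximal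
    ⟨⊥, inferInstance, inferInstance⟩
  have hAn : A.Normal := hA.prop.1
  have hAc : IsMulCommutative A := hA.prop.2
  have hAmax : ∀ B : Subgroup H, B.Normal → IsMulCommutative B → A ≤ B → B = A :=
    fun B h1 h2 h3 => le_antisymm (hA.le_of_ge ⟨h1, h2⟩ h3) h3
  have hcyc : IsCyclic A := hreg.isCyclic A hAc
  obtain ⟨W₀, h0b, h0t, h0inv⟩ := hI A hAn hcyc
  have hne : centralizer (A : Set H) ≠ A := hreg.centralizer_ne A W₀ h0b h0t h0inv
  have hleA : A ≤ centralizer (A : Set H) := le_centralizer_iff_isMulCommutative.mpr hAc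
  have hCna : ¬ IsMulCommutative (centralizer (A : Set H)) :=
    fun hc => hne (hAmax _ inferInstance hc hleA)
  -- the minimal non-abelian normal subgroup
  obtain ⟨N, hN⟩ := (Set.toFinite {M : Subgroup H | M.Normal ∧ M ≤ centralizer (A : Set H) ∧
    ¬ IsMulCommutative M}).exists_minimal ⟨_, inferInstance, le_rfl, hCna⟩
  have hNn : N.Normal := hN.prop.1
  have hNle : N ≤ centralizer (A : Set H) := hN.prop.2.1
  have hNna : ¬ IsMulCommutative N := hN.prop.2.2
  have hNmin : ∀ M : Subgroup H, M.Normal → M ≤ N → ¬ IsMulCommutative M → M = N :=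
    fun M h1 h2 h3 => le_antisymm h2 (hN.le_of_le ⟨h1, h2.trans hNle, h3⟩ h2)
  have hirr : ∀ W : Submodule (ZMod p) V,
      (∀ n ∈ N, ∀ v ∈ W, ((n : H) : V ≃ₗ[ZMod p] V) v ∈ W) → W = ⊥ ∨ W = ⊤ := by
    intro W hW
    by_contra hcon
    push Not at hcon
    apply hNna
    have hc := hreg.comm_of_reducible N W hcon.1 hcon.2 hW
    exact ⟨⟨fun a b => Subtype.ext (hc a a.2 b b.2)⟩⟩
  have hCN : centralizer (N : Set H) = A := by
    have hc := centralizer_comm_of_irreducible N hirr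
    apply hAmax _ inferInstance ⟨⟨fun a b => Subtype.ext (hc a a.2 b b.2)⟩⟩
    rw [Subgroup.le_centralizer_iff]
    exact hNle
  have hFR : HasFreeRep H := by
    apply hreg.hasFreeRep
    by_contra hcon
    push Not at hcon
    exact hNna ⟨⟨fun a b => Subtype.ext ((hcon _).trans (hcon _).symm)⟩⟩
  obtain ⟨e⟩ := min_nonabelian_q8 hFR A hAn hAc hAmax N hNn hNle hNna hNmin
  have tr : ∀ x y w : QuaternionGroup 2, x * y = w →
      ((e.symm x : N) : H) * ((e.symm y : N) : H) = ((e.symm w : N) : H) := by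
    intro x y w h
    rw [← h, map_mul]; rfl
  set i : H := ((e.symm (QuaternionGroup.a 1) : N) : H) with hi
  set j : H := ((e.symm (QuaternionGroup.xa 0) : N) : H) with hj
  set z : H := ((e.symm (QuaternionGroup.a 2) : N) : H) with hz
  have hiN : i ∈ N := (e.symm (QuaternionGroup.a 1)).2
  have hjN : j ∈ N := (e.symm (QuaternionGroup.xa 0)).2
  have hii : i * i = z := tr _ _ _ (by decide)
  have hjj : j * j = z := tr _ _ _ (by decide)
  have hji : j * i = z * (i * j) := by
    rw [tr (QuaternionGroup.xa 0) (QuaternionGroup.a 1) (QuaternionGroup.xa 1) (by decide),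
      tr (QuaternionGroup.a 1) (QuaternionGroup.xa 0) (QuaternionGroup.xa 3) (by decide),
      tr (QuaternionGroup.a 2) (QuaternionGroup.xa 3) (QuaternionGroup.xa 1) (by decide)]
  have hz1 : z ≠ 1 := by
    intro h
    have h1 : e.symm (QuaternionGroup.a 2) = 1 := Subtype.ext h
    have h2 : (QuaternionGroup.a 2 : QuaternionGroup 2) = 1 := by
      rw [← e.apply_symm_apply (QuaternionGroup.a 2), h1, map_one]
    exact absurd h2 (by decide)
  have hzz : z * z = 1 := by
    rw [tr (QuaternionGroup.a 2) (QuaternionGroup.a 2) 1 (by decide), map_one]; rfl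
  have hzv := fun v => hreg.invol_apply hz1 hzz v
  let I : Module.End (ZMod p) V := ((i : V ≃ₗ[ZMod p] V) : V →ₗ[ZMod p] V)
  let J : Module.End (ZMod p) V := ((j : V ≃ₗ[ZMod p] V) : V →ₗ[ZMod p] V)
  have hI2 : I * I = -1 := by
    ext v
    have : (i : V ≃ₗ[ZMod p] V) ((i : V ≃ₗ[ZMod p] V) v) = (z : V ≃ₗ[ZMod p] V) v :=
      congrArg (fun f : H => (f : V ≃ₗ[ZMod p] V) v) hii
    change (i : V ≃ₗ[ZMod p] V) ((i : V ≃ₗ[ZMod p] V) v) = -v
    rw [this, hzv]
  have hJ2 : J * J = -1 := by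
    ext v
    have : (j : V ≃ₗ[ZMod p] V) ((j : V ≃ₗ[ZMod p] V) v) = (z : V ≃ₗ[ZMod p] V) v :=
      congrArg (fun f : H => (f : V ≃ₗ[ZMod p] V) v) hjj
    change (j : V ≃ₗ[ZMod p] V) ((j : V ≃ₗ[ZMod p] V) v) = -v
    rw [this, hzv]
  have hJI : J * I = -(I * J) := by
    ext v
    have : (j : V ≃ₗ[ZMod p] V) ((i : V ≃ₗ[ZMod p] V) v)
        = (z : V ≃ₗ[ZMod p] V) ((i : V ≃ₗ[ZMod p] V) ((j : V ≃ₗ[ZMod p] V) v)) :=
      congrArg (fun f : H => (f : V ≃ₗ[ZMod p] V) v) hji
    change (j : V ≃ₗ[ZMod p] V) ((i : V ≃ₗ[ZMod p] V) v)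
      = -((i : V ≃ₗ[ZMod p] V) ((j : V ≃ₗ[ZMod p] V) v))
    rw [this, hzv]
  have h2 : (2 : ZMod p) ≠ 0 := by
    intro h20
    obtain ⟨v₀, hv₀⟩ := exists_ne (0 : V)
    apply hv₀
    apply hreg.fpf hz1 (v := v₀)
    rw [hzv]
    have : v₀ + v₀ = 0 := by rw [← two_smul (ZMod p) v₀, h20, zero_smul]
    exact (eq_neg_of_add_eq_zero_left this).symm
  obtain ⟨a, b, hab⟩ := ZMod.sq_add_sq p (-1)
  let W : Submodule (ZMod p) V := Cfsg.Agent.Lib.Helper38.Zass.halfSpace a b I J
  have hcardV : Nat.card V = Nat.card W ^ 2 :=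
    Cfsg.Agent.Lib.Helper38.Zass.card_eq_sq_halfSpace h2 hab hI2 hJ2 hJI
  have hWinv : ∀ α ∈ A, ∀ v ∈ W, ((α : H) : V ≃ₗ[ZMod p] V) v ∈ W := by
    intro α hα v hv
    have c1 : α * i = i * α := (mem_centralizer_iff.mp (hNle hiN)) α hα
    have c2 : α * j = j * α := (mem_centralizer_iff.mp (hNle hjN)) α hα
    refine Cfsg.Agent.Lib.Helper38.Zass.halfSpace_invariant
      (((α : V ≃ₗ[ZMod p] V) : V →ₗ[ZMod p] V) : Module.End (ZMod p) V) ?_ ?_ hv
    · ext w
      exact congrArg (fun f : H => (f : V ≃ₗ[ZMod p] V) w) c1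
    · ext w
      exact congrArg (fun f : H => (f : V ≃ₗ[ZMod p] V) w) c2
  have hV2 : 1 < Nat.card V := Finite.one_lt_card
  have hQ2 : 2 ≤ Nat.card W := by
    by_contra hlt
    have : Nat.card W ≤ 1 := by omega
    have : Nat.card W ^ 2 ≤ 1 := Nat.pow_le_one_iff (by norm_num) |>.mpr this
    omega
  have hWcard : Nat.card W = p ^ Module.finrank (ZMod p) W := by
    rw [Module.natCard_eq_pow_finrank (K := ZMod p) (V := W), Nat.card_zmod]
  have hAd : Nat.card A ∣ Nat.card W - 1 := by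
    rw [hWcard]
    exact hreg.card_dvd A W hWinv
  have hidx : A.index ∣ 24 := by
    rw [← hCN]
    exact index_centralizer_q8_dvd N e
  have hN8 : Nat.card N = 8 := by
    rw [Nat.card_congr e.toEquiv, Nat.card_eq_fintype_card, QuaternionGroup.card]
  have h8 : 8 ∣ Nat.card A * A.index := by
    rw [Subgroup.card_mul_index, ← hN8]
    exact Subgroup.card_subgroup_dvd_card N
  have hHV : Nat.card A * A.index + 1 = Nat.card W ^ 2 := by
    rw [Subgroup.card_mul_index, hreg.card_eq, hcardV]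
  rcases arith688 hQ2 hAd hidx h8 hHV with hQ | hQ | hQ | hQ | hQ
  · exfalso
    have hH8 : Nat.card H = 8 := by
      have := hreg.card_eq
      rw [hcardV, hQ] at this
      omega
    have ho : orderOf i = 4 := by
      rw [hi, Subgroup.orderOf_coe, MulEquiv.orderOf_eq e.symm, QuaternionGroup.orderOf_a_one]
    have hc4 : Nat.card (zpowers i) = 4 := by rw [Nat.card_zpowers, ho]
    have hidx2 : (zpowers i).index = 2 := by
      have := Subgroup.card_mul_index (zpowers i)
      rw [hc4, hH8] at this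
      omega
    have hMn : (zpowers i).Normal := Subgroup.normal_of_index_eq_two hidx2
    have hcomm := central_of_proper A hAn hAc hAmax N hNle hNmin (zpowers i) hMn
      (by rw [zpowers_le]; exact hiN) (by
        intro h
        rw [h, hN8] at hc4
        omega) i (mem_zpowers i) j hjN
    apply hz1
    rw [← hcomm] at hji
    exact (mul_eq_right.mp hji.symm)
  · left; rw [hcardV, hQ]; norm_num
  · right; left; rw [hcardV, hQ]; norm_num
  · right; right; left; rw [hcardV, hQ]; norm_num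
  · right; right; right; rw [hcardV, hQ]; norm_num

end Cfsg.Agent.Lib.Helper41
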