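import Cfsg.Agent.Lib.Helper41.Sharp3TR
import Cfsg.Agent.Lib.Helper76.Sharp3NF

namespace Cfsg.Agent.Lib.Helper41.Sharp3

theorem exists_relIndex_two_of_regular_conj {G : Type*} [Group G] [Finite G] (H E : Subgroup G)
    (p : ℕ) [Fact p.Prime] (hp2 : p ≠ 2) (hH1 : H ≠ ⊥)
    (hHc : ∀ u ∈ H, ∀ v ∈ H, u * v = v * u) (hHp : ∀ u ∈ H, u ^ p = 1)
    (hnorm : ∀ x ∈ E, ∀ u ∈ H, x * u * x⁻¹ ∈ H)
    (hreg : ∀ u ∈ H, ∀ v ∈ H, u ≠ 1 → v ≠ 1 → ∃! x : E, (x : G) * u * (x : G)⁻¹ = v)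
    (h3 : ∀ α ∈ E, ∀ β ∈ E, α ≠ 1 → α ^ 3 = 1 → β ≠ 1 → β ^ 3 = 1 → β = α ∨ β = α⁻¹) :
    ∃ N : Subgroup G, N ≤ E ∧ N.relIndex E = 2 :=
  exists_relIndex_two_of_regular_conj_of H E p
    (fun H hreg h3 => Cfsg.Agent.Lib.Helper76.NF.exists_index_two_of_regOn hp2 H hreg h3)
    hH1 hHc hHp hnorm hreg h3

end Cfsg.Agent.Lib.Helper41.Sharp3
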