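import Mathlib

/-!
# Ladder BG1212, rung NC (pure)

A non-cyclic action: if `u`, `v` commute, act on the abelian `r'`-group `A ≠ 1` with
`u ^ r`, `v ^ r` trivial and `C_A(v) = 1` then some `u v ^ k` has a fixed point.
-/

set_option autoImplicit false
set_option linter.style.haveILetI false

namespace Cfsg.Agent.Lib.Helper41.BG1212

open Subgroup

theorem nc_ring {M : Type*} [AddCommGroup M] {r : ℕ} (hr : r.Prime) (U V : AddMonoid.End M)
    (hUV : Commute U V) (hU : U ^ r = 1) (hV : V ^ r = 1) (hV1 : ∀ x, V x = x → x = 0)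
    (hk : ∀ k < r, ∀ x, (U * V ^ k) x = x → x = 0) : ∀ x : M, r • x = 0 := by
  have hT : ∀ W : AddMonoid.End M, W ^ r = 1 → (∀ x, W x = x → x = 0) →
      ∑ i ∈ Finset.range r, W ^ i = 0 := by
    intro W hW hfix
    ext x
    apply hfix
    have h1 : (W - 1) * ∑ i ∈ Finset.range r, W ^ i = 0 := by rw [mul_geom_sum, hW, sub_self]
    have h2 := DFunLike.congr_fun h1 x
    have h3 : ((W - 1) * ∑ i ∈ Finset.range r, W ^ i) x
        = W ((∑ i ∈ Finset.range r, W ^ i) x) - (∑ i ∈ Finset.range r, W ^ i) x := rfl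
    rw [h3] at h2
    exact sub_eq_zero.1 h2
  have hVi : ∀ i, 0 < i → i < r → ∑ k ∈ Finset.range r, (V ^ i) ^ k = 0 := by
    intro i hi0 hir
    apply hT
    · rw [← pow_mul, mul_comm, pow_mul, hV, one_pow]
    · intro x hx
      apply hV1
      have hcop : Nat.Coprime i r :=
        (Nat.coprime_comm.1 ((Nat.Prime.coprime_iff_not_dvd hr).2
          (fun h => by have := Nat.le_of_dvd hi0 h; omega)))
      obtain ⟨m, -, hm⟩ := Nat.exists_mul_mod_eq_one_of_coprime hcop hr.one_lt
      have h1 : V = (V ^ i) ^ m := by rw [← pow_mul, pow_eq_pow_mod (i * m) hV, hm, pow_one]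
      have h2 : ∀ n : ℕ, ((V ^ i) ^ n) x = x := by
        intro n
        induction n with
        | zero => simp
        | succ n ih =>
          rw [pow_succ]
          change ((V ^ i) ^ n) ((V ^ i) x) = x
          rw [hx, ih]
      rw [h1]
      exact h2 m
  have hsum : ∑ k ∈ Finset.range r, ∑ i ∈ Finset.range r, (U * V ^ k) ^ i = 0 :=
    Finset.sum_eq_zero (fun k hk' => hT _ (by
      rw [(hUV.pow_right k).mul_pow, hU, ← pow_mul, mul_comm, pow_mul, hV, one_pow, one_mul])
      (hk k (Finset.mem_range.1 hk')))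
  rw [Finset.sum_comm] at hsum
  have h3 : ∀ i ∈ Finset.range r, ∑ k ∈ Finset.range r, (U * V ^ k) ^ i
      = U ^ i * ∑ k ∈ Finset.range r, (V ^ i) ^ k := by
    intro i _
    rw [Finset.mul_sum]
    apply Finset.sum_congr rfl
    intro k _
    rw [(hUV.pow_right k).mul_pow, ← pow_mul, ← pow_mul, mul_comm k i]
  rw [Finset.sum_congr rfl h3] at hsum
  have h4 : ∑ i ∈ Finset.range r, U ^ i * ∑ k ∈ Finset.range r, (V ^ i) ^ k
      = ((r : ℕ) : AddMonoid.End M) := by
    rw [Finset.sum_eq_single_of_mem 0 (Finset.mem_range.2 hr.pos)]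
    · simp
    · intro i hi hi0
      rw [hVi i (Nat.pos_of_ne_zero hi0) (Finset.mem_range.1 hi), mul_zero]
  rw [h4] at hsum
  intro x
  have := DFunLike.congr_fun hsum x
  simpa using this

/-- a multiplicative endomorphism as an element of the endomorphism ring -/
def ncAdd {B : Type*} [CommGroup B] (W : B →* B) : AddMonoid.End (Additive B) :=
  MonoidHom.toAdditive W

theorem ncAdd_pow {B : Type*} [CommGroup B] (W : B →* B) (n : ℕ) (y : Additive B) :
    (((ncAdd W) ^ n) y) = Additive.ofMul (W^[n] y.toMul) := by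
  induction n generalizing y with
  | zero => rfl
  | succ n ih =>
    rw [pow_succ]
    change ((ncAdd W) ^ n) ((ncAdd W) y) = _
    rw [ih]
    rfl

theorem nc_comm {B : Type*} [CommGroup B] {r : ℕ} (hr : r.Prime) (U V : B →* B)
    (hUV : ∀ x, U (V x) = V (U x)) (hU : ∀ x, U^[r] x = x) (hV : ∀ x, V^[r] x = x)
    (hV1 : ∀ x, V x = x → x = 1) (hk : ∀ k < r, ∀ x, U (V^[k] x) = x → x = 1) :
    ∀ x : B, x ^ r = 1 := by
  intro x
  have hp := @ncAdd_pow B _
  have h := nc_ring (M := Additive B) hr (ncAdd U)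
    (ncAdd V)
    (by
      ext y
      exact hUV y.toMul)
    (by
      ext y
      rw [hp]
      exact hU y.toMul)
    (by
      ext y
      rw [hp]
      exact hV y.toMul)
    (fun y hy => hV1 y.toMul hy)
    (fun k hkr y hy => hk k hkr y.toMul (by
      have h1 : ((ncAdd U) *
          (ncAdd V) ^ k) y
          = (ncAdd U) (((ncAdd V) ^ k) y) := rfl
      rw [h1, hp] at hy
      exact hy))
    (Additive.ofMul x)
  exact h

variable {G : Type*} [Group G]

/-- conjugation by an element of the normalizer -/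
def ncCj {A : Subgroup G} (w : G) (hw : w ∈ normalizer (A : Set G)) : A →* A where
  toFun a := ⟨w * a * w⁻¹, (mem_normalizer_iff.1 hw a).1 a.2⟩
  map_one' := by
    apply Subtype.ext
    simp
  map_mul' a b := by
    apply Subtype.ext
    simp

theorem ncCj_iter {A : Subgroup G} (w : G) (hw : w ∈ normalizer (A : Set G)) (k : ℕ) (a : A) :
    (((ncCj w hw)^[k] a : A) : G) = w ^ k * a * (w ^ k)⁻¹ := by
  induction k with
  | zero => simp
  | succ k ih =>
    rw [Function.iterate_succ_apply']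
    change w * (((ncCj w hw)^[k] a : A) : G) * w⁻¹ = _
    rw [ih, pow_succ']
    group

/-- [NC] pure. -/
theorem nc [Finite G] {r : ℕ} [Fact r.Prime] {A : Subgroup G}
    (hAc : ∀ a ∈ A, ∀ b ∈ A, a * b = b * a)
    (hr : (Nat.card A).Coprime r) (hA1 : A ≠ ⊥) {u v : G} (hu : u ∈ normalizer (A : Set G))
    (hv : v ∈ normalizer (A : Set G)) (huv : u * v = v * u)
    (hur : u ^ r ∈ centralizer (A : Set G)) (hvr : v ^ r ∈ centralizer (A : Set G))
    (hv1 : A ⊓ centralizer ({v} : Set G) = ⊥) :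
    ∃ k : ℕ, A ⊓ centralizer ({u * v ^ k} : Set G) ≠ ⊥ := by
  by_contra hcon
  push Not at hcon
  letI : CommGroup A :=
    { (inferInstance : Group A) with mul_comm := fun a b => Subtype.ext (hAc a a.2 b b.2) }
  have hfix : ∀ (w : G) (a : A), A ⊓ centralizer ({w} : Set G) = ⊥ →
      w * (a : G) * w⁻¹ = a → a = 1 := by
    intro w a hw ha
    have h1 : (a : G) ∈ A ⊓ centralizer ({w} : Set G) := by
      refine mem_inf.2 ⟨a.2, ?_⟩
      rw [mem_centralizer_singleton_iff]
      calc (a : G) * w = (w * a * w⁻¹) * w := by rw [ha]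
        _ = w * a := by group
    rw [hw, mem_bot] at h1
    exact Subtype.ext h1
  have hcent : ∀ (w : G) (a : A), w ∈ centralizer (A : Set G) → w * (a : G) * w⁻¹ = a := by
    intro w a hw
    rw [← (mem_centralizer_iff.1 hw) a a.2]
    group
  have hpow := nc_comm (B := A) (Fact.out : r.Prime) (ncCj u hu) (ncCj v hv)
    (by
      intro x
      apply Subtype.ext
      change u * (v * x * v⁻¹) * u⁻¹ = v * (u * x * u⁻¹) * v⁻¹
      calc u * (v * x * v⁻¹) * u⁻¹ = (u * v) * x * (u * v)⁻¹ := by group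
        _ = (v * u) * x * (v * u)⁻¹ := by rw [huv]
        _ = v * (u * x * u⁻¹) * v⁻¹ := by group)
    (by
      intro x
      apply Subtype.ext
      rw [ncCj_iter]
      exact hcent _ x hur)
    (by
      intro x
      apply Subtype.ext
      rw [ncCj_iter]
      exact hcent _ x hvr)
    (fun x hx => hfix v x hv1 (congrArg Subtype.val hx))
    (fun k _ x hx => hfix (u * v ^ k) x (hcon k) (by
      have h1 : u * (((ncCj v hv)^[k] x : A) : G) * u⁻¹ = x := congrArg Subtype.val hx
      rw [ncCj_iter] at h1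
      calc (u * v ^ k) * (x : G) * (u * v ^ k)⁻¹
          = u * (v ^ k * (x : G) * (v ^ k)⁻¹) * u⁻¹ := by group
        _ = x := h1))
  apply hA1
  rw [eq_bot_iff_forall]
  intro a ha
  have h1 : (⟨a, ha⟩ : A) ^ r = 1 := hpow ⟨a, ha⟩
  have h2 : (⟨a, ha⟩ : A) ^ Nat.card A = 1 := pow_card_eq_one'
  have h3 : (⟨a, ha⟩ : A) ^ Nat.gcd (Nat.card A) r = 1 := by
    rw [pow_gcd_eq_one]
    exact ⟨h2, h1⟩
  rw [hr, pow_one] at h3
  exact congrArg Subtype.val h3

end Cfsg.Agent.Lib.Helper41.BG1212
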