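import Mathlib
import Cfsg.Agent.Lib.Helper41.BG1212NC

/-!
# Ladder BG1212, rung PW (pure)
-/

set_option autoImplicit false
set_option linter.style.haveILetI false

namespace Cfsg.Agent.Lib.Helper41.BG1212

open Subgroup

theorem pw_nil {M : Type*} [AddCommGroup M] {p : ℕ} (hp : p.Prime) (ν : M →+ M) (N : ℕ) :
    ∀ (n : ℕ) (W : AddSubgroup M), Finite W → Nat.card W ∣ p ^ n → (∀ w ∈ W, ν w ∈ W) →
      (∀ w ∈ W, ν^[N] w = 0) → ∀ w ∈ W, ν^[n] w = 0 := by
  intro n
  induction n with
  | zero =>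
    intro W _ hc _ _ w hw
    have h1 : Nat.card W = 1 := Nat.dvd_one.1 (by simpa using hc)
    have h2 : W = ⊥ := AddSubgroup.eq_bot_of_card_eq W h1
    rw [h2, AddSubgroup.mem_bot] at hw
    simpa using hw
  | succ n ih =>
    intro W hfin hc hinv hnil w hw
    by_cases hW : W = ⊥
    · rw [hW, AddSubgroup.mem_bot] at hw
      rw [hw]
      exact iterate_map_zero ν _
    · have hle : W.map ν ≤ W := by
        rintro _ ⟨y, hy, rfl⟩
        exact hinv y hy
      have hne : W.map ν ≠ W := by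
        intro heq
        have hall : ∀ k, ∀ w ∈ W, ∃ y ∈ W, ν^[k] y = w := by
          intro k
          induction k with
          | zero => exact fun w hw => ⟨w, hw, rfl⟩
          | succ k ihk =>
            intro w hw
            rw [← heq] at hw
            obtain ⟨y, hy, rfl⟩ := hw
            obtain ⟨z, hz, rfl⟩ := ihk y hy
            exact ⟨z, hz, by rw [Function.iterate_succ_apply']⟩
        apply hW
        rw [AddSubgroup.eq_bot_iff_forall]
        intro w hw
        obtain ⟨y, hy, rfl⟩ := hall N w hw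
        exact hnil y hy
      have hcard : Nat.card (W.map ν) ∣ p ^ n := by
        obtain ⟨j, hj, hWj⟩ := (Nat.dvd_prime_pow hp).1 hc
        have hd : Nat.card (W.map ν) ∣ Nat.card W := AddSubgroup.card_dvd_of_le hle
        rw [hWj] at hd
        obtain ⟨i, hi, hWi⟩ := (Nat.dvd_prime_pow hp).1 hd
        have hij : i ≠ j := by
          rintro rfl
          exact hne (AddSubgroup.eq_of_le_of_card_ge hle (by rw [hWj, hWi]))
        rw [hWi]
        exact pow_dvd_pow p (by omega)
      have hfin' : Finite (W.map ν) := Finite.of_injective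
        (fun y : W.map ν => (⟨y.1, hle y.2⟩ : W)) (fun a b h => Subtype.ext (congrArg
          (fun z : W => z.1) h))
      have h3 := ih (W.map ν) hfin' hcard (fun y hy => ⟨y, hle hy, rfl⟩)
        (fun y hy => hnil y (hle hy)) (ν w) ⟨w, hw, rfl⟩
      rw [Function.iterate_succ_apply]
      exact h3

theorem pw_add {M : Type*} [AddCommGroup M] [Finite M] {p : ℕ} (hp : p.Prime) (hp5 : 5 ≤ p)
    (X : AddMonoid.End M) (hX : X ^ p = 1) (hKc : Nat.card {m : M // p • m = 0} = p ^ 2)
    (s : M) (hs : p • (p • s) = 0) : X (p • s) = p • s := by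
  set ν : AddMonoid.End M := X - 1 with hν
  have hXν : X = ν + 1 := by rw [hν, sub_add_cancel]
  have hνap : ∀ m, ν m = X m - m := fun m => rfl
  have hbin : ∀ m, ∑ k ∈ Finset.range (p + 1), (p.choose k) • (ν ^ k) m = m := by
    intro m
    have h1 := (Commute.one_right ν).add_pow p
    rw [← hXν, hX] at h1
    let ev : AddMonoid.End M →+ M :=
      { toFun := fun f => f m
        map_zero' := rfl
        map_add' := fun _ _ => rfl }
    have h2 := congrArg ev h1
    rw [map_sum] at h2
    have h3 : ev 1 = m := rfl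
    rw [h3] at h2
    refine Eq.trans ?_ h2.symm
    apply Finset.sum_congr rfl
    intro k _
    rw [one_pow, mul_one]
    change _ = (ν ^ k) (((p.choose k : ℕ) : AddMonoid.End M) m)
    rw [AddMonoid.End.natCast_apply, map_nsmul]
  have hKpow : ∀ (k : ℕ) (a : M), p • a = 0 → p • (ν ^ k) a = 0 := by
    intro k a ha
    rw [← map_nsmul, ha, map_zero]
  have hterm : ∀ (k : ℕ) (a : M), k ≠ 0 → k < p → p • a = 0 → (p.choose k) • (ν ^ k) a = 0 := by
    intro k a hk0 hkp ha
    obtain ⟨c, hc⟩ := hp.dvd_choose_self hk0 hkp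
    rw [hc, mul_comm, mul_smul, hKpow k a ha, smul_zero]
  have hnilK : ∀ a : M, p • a = 0 → (ν ^ p) a = 0 := by
    intro a ha
    have h1 := hbin a
    rw [Finset.sum_eq_add 0 p (by omega) (by
      intro c hc hc2
      exact hterm c a hc2.1 (by have := Finset.mem_range.1 hc; omega) ha)
      (fun h => absurd (Finset.mem_range.2 (by omega)) h)
      (fun h => absurd (Finset.mem_range.2 (by omega)) h)] at h1
    simpa using h1
  have hν2 : ∀ a : M, p • a = 0 → (ν ^ 2) a = 0 := by
    intro a ha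
    have h1 := pw_nil hp (ν : M →+ M) p 2 (AddMonoidHom.ker (nsmulAddMonoidHom p : M →+ M))
      inferInstance (by
        have : Nat.card (AddMonoidHom.ker (nsmulAddMonoidHom p : M →+ M))
            = Nat.card {m : M // p • m = 0} := rfl
        rw [this, hKc]) (by
        intro w hw
        rw [AddMonoidHom.mem_ker] at hw ⊢
        change p • ν w = 0
        have h2 := hKpow 1 w hw
        rwa [pow_one] at h2) (by
        intro w hw
        have h2 := hnilK w hw
        rwa [AddMonoid.End.coe_pow] at h2) a ha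
    rw [AddMonoid.End.coe_pow]
    exact h1
  have hs2 : p • (ν ^ 2) s = 0 := by
    rw [← map_nsmul]
    exact hν2 _ hs
  have hs4 : (ν ^ 4) s = 0 := by
    have : (ν ^ 4) s = (ν ^ 2) ((ν ^ 2) s) := by
      rw [show (4 : ℕ) = 2 + 2 from rfl, pow_add]
      rfl
    rw [this]
    exact hν2 _ hs2
  have h1 := hbin s
  rw [Finset.sum_eq_add 0 1 (by omega) (by
    intro c hc hc2
    have hcp := Finset.mem_range.1 hc
    rcases Nat.lt_or_ge c p with hlt | hge
    · obtain ⟨j, rfl⟩ : ∃ j, c = j + 2 := ⟨c - 2, by omega⟩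
      obtain ⟨d, hd⟩ := hp.dvd_choose_self hc2.1 hlt
      have h3 : (ν ^ (j + 2)) s = (ν ^ j) ((ν ^ 2) s) := by
        rw [pow_add]
        rfl
      rw [hd, mul_comm, mul_smul, h3, hKpow j _ hs2, smul_zero]
    · obtain ⟨j, rfl⟩ : ∃ j, c = j + 4 := ⟨c - 4, by omega⟩
      have h3 : (ν ^ (j + 4)) s = (ν ^ j) ((ν ^ 4) s) := by
        rw [pow_add]
        rfl
      rw [h3, hs4, map_zero, smul_zero])
    (fun h => absurd (Finset.mem_range.2 (by omega)) h)
    (fun h => absurd (Finset.mem_range.2 (by omega)) h)] at h1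
  simp only [Nat.choose_zero_right, pow_zero, one_smul, Nat.choose_one_right, pow_one,
    AddMonoid.End.coe_one, id_eq, add_eq_left] at h1
  rw [hνap, smul_sub, sub_eq_zero, ← map_nsmul] at h1
  exact h1

variable {G : Type*} [Group G] [Finite G]

/-- [PW] pure. -/
theorem pw {p : ℕ} [Fact p.Prime] (hp5 : 5 ≤ p) {S A : Subgroup G}
    (hSc : ∀ a ∈ S, ∀ b ∈ S, a * b = b * a) (hAS : ∀ s ∈ S, s ^ p = 1 ↔ s ∈ A)
    (hA : Nat.card A = p ^ 2) (hAle : A ≤ S)
    {x : G} (hxS : x ∈ normalizer (S : Set G)) (hxp : x ^ p ∈ centralizer (S : Set G))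
    {s : G} (hs : s ∈ S) (hsA : s ^ p ∈ A) : x * s ^ p * x⁻¹ = s ^ p := by
  letI : CommGroup S :=
    { (inferInstance : Group S) with mul_comm := fun a b => Subtype.ext (hSc a a.2 b b.2) }
  have hcard : Nat.card {m : Additive S // p • m = 0} = p ^ 2 := by
    rw [← hA]
    refine Nat.card_congr ⟨fun m => ⟨((Additive.toMul m.1 : S) : G), ?_⟩,
      fun a => ⟨Additive.ofMul (⟨a.1, hAle a.2⟩ : S), ?_⟩, fun m => rfl, fun a => rfl⟩
    · rw [← hAS _ (Additive.toMul m.1 : S).2]
      have h1 : (Additive.toMul m.1 : S) ^ p = 1 := m.2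
      exact congrArg Subtype.val h1
    · have h1 : (⟨a.1, hAle a.2⟩ : S) ^ p = 1 := Subtype.ext ((hAS _ (hAle a.2)).2 a.2)
      exact h1
  have h := pw_add (M := Additive S) (Fact.out : p.Prime) hp5 (ncAdd (ncCj x hxS)) (by
      ext y
      rw [ncAdd_pow]
      change (((ncCj x hxS)^[p] y.toMul : S) : G) = ((y.toMul : S) : G)
      rw [ncCj_iter, ← (mem_centralizer_iff.1 hxp) _ (y.toMul : S).2]
      group) hcard (Additive.ofMul (⟨s, hs⟩ : S)) (by
      have h1 : ((⟨s, hs⟩ : S) ^ p) ^ p = 1 :=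
        Subtype.ext ((hAS _ (hAle hsA)).2 hsA)
      exact h1)
  have h2 : ncCj x hxS ((⟨s, hs⟩ : S) ^ p) = (⟨s, hs⟩ : S) ^ p := h
  exact congrArg Subtype.val h2

end Cfsg.Agent.Lib.Helper41.BG1212
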