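import Mathlib
import Cfsg.Agent.Lib.Helper12.CITMain
import Cfsg.Agent.Lib.Helper12.S3TWrap
import Cfsg.Agent.Lib.Helper73.ClassSize

set_option autoImplicit false

namespace Cfsg.Agent.Lib.Helper41.BR

open Subgroup

theorem comm_of_sq {G : Type*} [Group G] {a b : G} (ha : a ^ 2 = 1) (hb : b ^ 2 = 1)
    (hab : (a * b) ^ 2 = 1) : a * b = b * a := by
  have ha' : a⁻¹ = a := by rw [inv_eq_iff_mul_eq_one, ← sq, ha]
  have hb' : b⁻¹ = b := by rw [inv_eq_iff_mul_eq_one, ← sq, hb]
  rw [sq] at hab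
  calc a * b = a⁻¹ * b⁻¹ := by rw [ha', hb']
    _ = a⁻¹ * (a * b * (a * b)) * b⁻¹ := by rw [hab]; group
    _ = b * a := by group

/-- RUNG CITR -/
theorem cit_recog {G : Type*} [Group G] [Finite G] (p : ℕ) [Fact p.Prime] (hp : 5 < p) (w : G)
    (hw : orderOf w = 2)
    (hL : ∀ l ∈ Subgroup.centralizer ({w} : Set G), l ≠ 1 → IsConj w l)
    (hcard : Nat.card (Subgroup.centralizer ({w} : Set G)) = p - 1)
    (hG : Nat.card G = p * (p - 1) * (p - 2)) :
    ∃ (m : ℕ) (F : Type) (_ : Field F) (_ : Fintype F), Fintype.card F = 2 ^ m ∧ p = 2 ^ m + 1 ∧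
      3 < p ∧ Nonempty (G ≃* Matrix.ProjectiveSpecialLinearGroup (Fin 2) F) := by
  classical
  have hpp : p.Prime := Fact.out
  have : Fact (Nat.Prime 2) := ⟨Nat.prime_two⟩
  have hodd : Odd p := hpp.odd_of_ne_two (by omega)
  have hmemC : ∀ g, g ∈ centralizer ({w} : Set G) ↔ w * g = g * w := by
    intro g
    rw [mem_centralizer_iff]
    simp only [Set.mem_singleton_iff, forall_eq]
  have hsqC : ∀ l ∈ centralizer ({w} : Set G), l ^ 2 = 1 := by
    intro l hl
    by_cases h1 : l = 1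
    · rw [h1, one_pow]
    · obtain ⟨a, ha⟩ := isConj_iff.mp (hL l hl h1)
      rw [← ha, conj_pow, ← hw, pow_orderOf_eq_one]; group
  have hidx : (centralizer ({w} : Set G)).index = p * (p - 2) := by
    have h1 := (centralizer ({w} : Set G)).card_mul_index
    rw [hcard, hG] at h1
    have h2 : 0 < p - 1 := by omega
    apply Nat.eq_of_mul_eq_mul_left h2
    rw [h1]; ring
  have hC2 : IsPGroup 2 (centralizer ({w} : Set G)) := by
    intro l
    refine ⟨1, ?_⟩
    apply Subtype.ext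
    rw [pow_one]
    exact hsqC l l.2
  have hnd : ¬ 2 ∣ (centralizer ({w} : Set G)).index := by
    rw [hidx]
    obtain ⟨k, hk⟩ := hodd
    have h2 : p - 2 = 2 * (k - 1) + 1 := by omega
    rw [h2, hk]
    intro h
    have : (2 * k + 1) * (2 * (k - 1) + 1) = 2 * (2 * k * (k - 1) + k + (k - 1)) + 1 := by ring
    omega
  obtain ⟨T, hT⟩ : ∃ T : Sylow 2 G, (T : Subgroup G) = centralizer ({w} : Set G) :=
    ⟨hC2.toSylow hnd, rfl⟩
  have hnc : ¬ IsCyclic (T : Subgroup G) := by
    rw [hT]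
    intro hcyc
    obtain ⟨g, hg⟩ := hcyc.exists_generator
    have h1 : orderOf g = p - 1 := by rw [orderOf_eq_card_of_forall_mem_zpowers hg, hcard]
    have h2 : g ^ 2 = 1 := Subtype.ext (hsqC g g.2)
    have h3 := orderOf_le_of_pow_eq_one (by norm_num) h2
    omega
  have hnn : ¬ (T : Subgroup G).Normal := by
    rw [hT]
    intro hn
    have h1 := Cfsg.Agent.Lib.Helper73.card_isConj_eq_index_centralizer w
    rw [hidx] at h1
    have h2 : Nat.card {y : G // IsConj w y} ≤ Nat.card (centralizer ({w} : Set G)) := by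
      apply Nat.card_le_card_of_injective
        (fun y : {y : G // IsConj w y} => (⟨y.1, by
          obtain ⟨a, ha⟩ := isConj_iff.mp y.2
          rw [← ha]
          exact hn.conj_mem w ((hmemC w).mpr rfl) a⟩ : centralizer ({w} : Set G)))
      intro a b hab
      exact Subtype.ext (congrArg (fun z : centralizer ({w} : Set G) => (z : G)) hab)
    rw [h1, hcard] at h2
    have h3 : p * 1 ≤ p * (p - 2) := Nat.mul_le_mul_left p (by omega)
    omega
  have hconj : ∀ t : G, orderOf t = 2 → ∃ b : G, t = b * w * b⁻¹ := by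
    intro t ht
    have htp : IsPGroup 2 (zpowers t) := by
      rw [IsPGroup.iff_card, Nat.card_zpowers, ht]
      exact ⟨1, (pow_one 2).symm⟩
    obtain ⟨Q, hQ⟩ := htp.exists_le_sylow
    obtain ⟨g, hg⟩ := MulAction.exists_smul_eq G Q T
    have h1 : g * t * g⁻¹ ∈ (T : Subgroup G) := by
      rw [← hg, Sylow.coe_subgroup_smul]
      have := Subgroup.smul_mem_pointwise_smul t (MulAut.conj g) (Q : Subgroup G)
        (hQ (mem_zpowers t))
      simpa [MulAut.smul_def] using this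
    rw [hT] at h1
    have h2 : g * t * g⁻¹ ≠ 1 := by
      intro h
      have : t = 1 := by
        have h3 : t = g⁻¹ * (g * t * g⁻¹) * g := by group
        rw [h3, h]; group
      rw [this, orderOf_one] at ht
      omega
    obtain ⟨a, ha⟩ := isConj_iff.mp (hL _ h1 h2)
    refine ⟨g⁻¹ * a, ?_⟩
    have h3 : t = g⁻¹ * (g * t * g⁻¹) * g := by group
    rw [h3, ← ha]; group
  have hsq : ∀ t : G, orderOf t = 2 → ∀ c ∈ centralizer ({t} : Set G), c ^ 2 = 1 := by
    intro t ht c hc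
    obtain ⟨b, rfl⟩ := hconj t ht
    rw [mem_centralizer_iff] at hc
    have h1 := hc _ (Set.mem_singleton _)
    have h2 : b⁻¹ * c * b ∈ centralizer ({w} : Set G) := by
      rw [hmemC]
      calc w * (b⁻¹ * c * b) = b⁻¹ * (b * w * b⁻¹ * c) * b := by group
        _ = b⁻¹ * (c * (b * w * b⁻¹)) * b := by rw [h1]
        _ = b⁻¹ * c * b * w := by group
    have h3 := hsqC _ h2
    have h4 : c = b * (b⁻¹ * c * b) * b⁻¹ := by group
    rw [h4, conj_pow, h3]; group
  have hC : ∀ t : G, orderOf t = 2 → IsMulCommutative (Subgroup.centralizer ({t} : Set G)) ∧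
      ∀ c ∈ Subgroup.centralizer ({t} : Set G), c ^ 2 = 1 := by
    intro t ht
    refine ⟨⟨⟨fun a b => Subtype.ext ?_⟩⟩, hsq t ht⟩
    exact comm_of_sq (hsq t ht a a.2) (hsq t ht b b.2) (hsq t ht _ (mul_mem a.2 b.2))
  obtain ⟨F, iF, iFt, hch, hc, hE⟩ := Cfsg.Agent.Lib.Helper12.CIT.main T hnc hnn hC
  obtain ⟨m, -, hm⟩ := Cfsg.Agent.Lib.Helper12.S3T.card_pow_two F
  refine ⟨m, F, iF, iFt, hm, ?_, by omega, hE⟩
  rw [hT, hcard, hm] at hc
  omega

end Cfsg.Agent.Lib.Helper41.BR
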