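import Mathlib
import Cfsg.Prelude.Def_CaseTheorems
import Cfsg.Agent.Lib.Helper14.PConstrained

set_option autoImplicit false

namespace Cfsg.Agent.Lib.Helper41.BR

/-- RUNG Q -/
theorem quot_pack {G : Type*} [Group G] [Finite G] (hperf : commutator G = ⊤) (p : ℕ) [Fact p.Prime]
    (P : Sylow p G) (hP : Nat.card P = p) :
    commutator (G ⧸ Cfsg.pPrimeCore p G) = ⊤ ∧
    (∃ Q : Sylow p (G ⧸ Cfsg.pPrimeCore p G), Nat.card Q = p) ∧
    Nat.card (Sylow p (G ⧸ Cfsg.pPrimeCore p G)) ∣ Nat.card (Sylow p G) ∧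
    ∀ K : Subgroup (G ⧸ Cfsg.pPrimeCore p G), K.Normal → ¬ p ∣ Nat.card K → K = ⊥ := by
  have hp : p.Prime := Fact.out
  have hsurj := QuotientGroup.mk'_surjective (Cfsg.pPrimeCore p G)
  have hcop : (Nat.card (Cfsg.pPrimeCore p G)).Coprime p :=
    Cfsg.Agent.Lib.Helper14.card_pPrimeCore_coprime
  refine ⟨?_, ?_, ?_, ?_⟩
  · rw [commutator_def, ← Subgroup.map_top_of_surjective _ hsurj, ← Subgroup.map_commutator,
      ← commutator_def, hperf]
  · refine ⟨P.mapSurjective hsurj, ?_⟩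
    have h1 : Nat.card ((P : Subgroup G).map (QuotientGroup.mk' (Cfsg.pPrimeCore p G))) ∣ p := by
      have := Subgroup.card_map_dvd (P : Subgroup G) (QuotientGroup.mk' (Cfsg.pPrimeCore p G))
      rwa [hP] at this
    rcases (Nat.dvd_prime hp).mp h1 with h | h
    · exfalso
      have h2 : (P : Subgroup G).map (QuotientGroup.mk' (Cfsg.pPrimeCore p G)) = ⊥ :=
        Subgroup.card_eq_one.mp h
      have h3 : (P : Subgroup G) ≤ Cfsg.pPrimeCore p G := by
        rw [← QuotientGroup.ker_mk' (Cfsg.pPrimeCore p G)]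
        exact (Subgroup.map_eq_bot_iff _).mp h2
      have h4 : p ∣ Nat.card (Cfsg.pPrimeCore p G) := by
        have := Subgroup.card_dvd_of_le h3
        rwa [hP] at this
      exact hp.one_lt.ne' (Nat.dvd_one.mp (hcop ▸ Nat.dvd_gcd h4 dvd_rfl))
    · exact h
  · rw [Sylow.card_eq_index_normalizer P, Sylow.card_eq_index_normalizer (P.mapSurjective hsurj),
      ← Subgroup.index_comap_of_surjective _ hsurj]
    apply Subgroup.index_dvd_of_le
    intro g hg
    rw [Subgroup.mem_comap]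
    exact Subgroup.le_normalizer_map _ ⟨g, hg, rfl⟩
  · intro K hK hpK
    have h1 : K ≤ Cfsg.pPrimeCore p (G ⧸ Cfsg.pPrimeCore p G) :=
      Cfsg.Agent.Lib.Helper14.le_pPrimeCore hK ((Nat.Prime.coprime_iff_not_dvd hp).mpr hpK).symm
    rw [Cfsg.Agent.Lib.Helper14.pPrimeCore_quotient_pPrimeCore] at h1
    exact le_bot_iff.mp h1

end Cfsg.Agent.Lib.Helper41.BR
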