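import Mathlib
import Cfsg.Prelude.Def_LieExceptional
import Cfsg.Agent.Lib.Helper78.SelfCent
import Cfsg.Agent.Lib.Helper7.SL2Center
import Cfsg.Agent.Lib.Helper14.Cores
import Cfsg.Agent.S0731

set_option autoImplicit false

namespace Cfsg.Agent.Lib.Helper41.BR

open Subgroup Cfsg.Agent.Lib.Helper78
open scoped Pointwise

section

variable {G : Type*} [Group G] [Finite G] {p : ℕ} [Fact p.Prime]

/-- self-centralising element of order `p` -/
def SC (p : ℕ) (y : G) : Prop := orderOf y = p ∧ centralizer ({y} : Set G) = zpowers y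

omit [Finite G] [Fact p.Prime] in
theorem SC.conj {z : G} (h : SC p z) (g : G) : SC p (g * z * g⁻¹) := by
  refine ⟨?_, ?_⟩
  · have := (MulAut.conj g).orderOf_eq z
    rw [MulAut.conj_apply] at this
    exact this.trans h.1
  · apply le_antisymm
    · intro c hc
      rw [mem_centralizer_singleton_iff] at hc
      have h1 : g⁻¹ * c * g ∈ centralizer ({z} : Set G) := by
        rw [mem_centralizer_singleton_iff]
        calc g⁻¹ * c * g * z = g⁻¹ * (c * (g * z * g⁻¹)) * g := by group
          _ = g⁻¹ * ((g * z * g⁻¹) * c) * g := by rw [hc]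
          _ = z * (g⁻¹ * c * g) := by group
      rw [h.2] at h1
      obtain ⟨k, hk⟩ := mem_zpowers_iff.mp h1
      refine mem_zpowers_iff.mpr ⟨k, ?_⟩
      rw [conj_zpow, hk]; group
    · rw [zpowers_le, mem_centralizer_singleton_iff]

theorem exists_SC {z : G} (h : SC p z) (Q : Sylow p G) :
    ∃ y, SC p y ∧ (Q : Subgroup G) = zpowers y := by
  have hp : p.Prime := Fact.out
  obtain ⟨P, hP⟩ := sc_exists_sylow hp h.1 h.2
  obtain ⟨g, hg⟩ := MulAction.exists_smul_eq G P Q
  have hy := h.conj g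
  refine ⟨_, hy, sc_pgroup_eq hp hy.1 hy.2 Q Q.2 ?_⟩
  rw [← hg, Sylow.coe_subgroup_smul]
  have := Subgroup.smul_mem_pointwise_smul z (MulAut.conj g) (P : Subgroup G)
    (hP ▸ mem_zpowers z)
  simpa [MulAut.smul_def] using this

theorem eq_of_fix {z : G} (h : SC p z) {A Q : Sylow p G} {x : G} (hxA : x ∈ (A : Subgroup G))
    (hx1 : x ≠ 1) (hfix : x • Q = Q) : Q = A := by
  have hp : p.Prime := Fact.out
  have h1 : x ∈ (A : Subgroup G) ⊓ normalizer (Q : Set G) :=
    ⟨hxA, Sylow.smul_eq_iff_mem_normalizer.mp hfix⟩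
  rw [A.2.inf_normalizer_sylow Q] at h1
  obtain ⟨y, hy, hQ⟩ := exists_SC h Q
  obtain ⟨y', hy', hA⟩ := exists_SC h A
  apply Sylow.ext
  rw [hQ, hA, ← sc_zpowers_eq_of_mem hp hy.1 (hQ ▸ h1.2) hx1,
    ← sc_zpowers_eq_of_mem hp hy'.1 (hA ▸ h1.1) hx1]

theorem smul_inj {z : G} (h : SC p z) {A b : Sylow p G} (hb : b ≠ A) {u v : G}
    (hu : u ∈ (A : Subgroup G)) (hv : v ∈ (A : Subgroup G)) (huv : u • b = v • b) : u = v := by
  by_contra hne
  have h1 : (v⁻¹ * u) • b = b := by rw [mul_smul, huv, inv_smul_smul]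
  have h2 : v⁻¹ * u ≠ 1 := fun h => hne (by rw [inv_mul_eq_one] at h; exact h.symm)
  exact hb (eq_of_fix h (mul_mem (inv_mem hv) hu) h2 h1)

omit [Finite G] [Fact p.Prime] in
theorem smul_self {A : Sylow p G} {u : G} (hu : u ∈ (A : Subgroup G)) : u • A = A :=
  Sylow.smul_eq_iff_mem_normalizer.mpr (le_normalizer hu)

theorem card_sylow_eq {z : G} (h : SC p z) (A : Sylow p G) : Nat.card (A : Subgroup G) = p := by
  obtain ⟨y, hy, hA⟩ := exists_SC h A
  rw [hA, Nat.card_zpowers, hy.1]

theorem exists_smul {z : G} (h : SC p z) (hn : Nat.card (Sylow p G) = 1 + p)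
    {A b c : Sylow p G} (hb : b ≠ A) (hc : c ≠ A) : ∃ u ∈ (A : Subgroup G), u • b = c := by
  classical
  have hcardA := card_sylow_eq h A
  let f : ↥(A : Subgroup G) → {c : Sylow p G // c ≠ A} := fun u => ⟨(u : G) • b, fun hh => hb (by
    have : (u : G) • b = (u : G) • A := by rw [hh, smul_self u.2]
    exact smul_left_cancel _ this)⟩
  have hf : Function.Injective f := fun u v huv =>
    Subtype.ext (smul_inj h hb u.2 v.2 (congrArg Subtype.val huv))
  have hcard : Nat.card {c : Sylow p G // c ≠ A} ≤ Nat.card (A : Subgroup G) := by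
    rw [hcardA]
    have : Fintype (Sylow p G) := Fintype.ofFinite _
    rw [Nat.card_eq_fintype_card, Fintype.card_subtype_compl, Fintype.card_subtype_eq,
      ← Nat.card_eq_fintype_card, hn]
    omega
  obtain ⟨u, hu⟩ := (hf.bijective_of_nat_card_le hcard).2 ⟨c, hc⟩
  exact ⟨u, u.2, congrArg Subtype.val hu⟩

theorem three_pt {z : G} (h : SC p z) (hn : Nat.card (Sylow p G) = 1 + p) (g : G)
    (a b c : Sylow p G) (hab : a ≠ b) (hbc : b ≠ c) (hac : a ≠ c) (ha : g • a = a)
    (hb : g • b = b) (hc : g • c = c) : g = 1 := by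
  have hp : p.Prime := Fact.out
  obtain ⟨x, hxa, hx⟩ := exists_smul h hn hab.symm hac.symm
  have hx1 : x ≠ 1 := by
    rintro rfl
    rw [one_smul] at hx
    exact hbc hx
  have hgN : g ∈ normalizer ((a : Subgroup G) : Set G) := Sylow.smul_eq_iff_mem_normalizer.mp ha
  have hx' : g * x * g⁻¹ ∈ (a : Subgroup G) := (mem_normalizer_iff.mp hgN x).mp hxa
  have h1 : (g * x * g⁻¹) • b = x • b := by
    have h2 : g⁻¹ • b = b := by rw [inv_smul_eq_iff, hb]
    rw [mul_smul, mul_smul, h2, hx, hc]
  have h2 : g * x * g⁻¹ = x := smul_inj h hab.symm hx' hxa h1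
  obtain ⟨y, hy, hA⟩ := exists_SC h a
  have hzx : zpowers x = zpowers y := sc_zpowers_eq_of_mem hp hy.1 (hA ▸ hxa) hx1
  have hgx : Commute g x := by
    show g * x = x * g
    calc g * x = g * x * g⁻¹ * g := by group
      _ = x * g := by rw [h2]
  have hgy : g * y = y * g := by
    have hyx : y ∈ zpowers x := hzx ▸ mem_zpowers y
    obtain ⟨k, hk⟩ := mem_zpowers_iff.mp hyx
    rw [← hk]
    exact (hgx.zpow_right k).eq
  have hga : g ∈ (a : Subgroup G) := by
    rw [hA]; exact sc_mem_zpowers_of_commute hy.2 hgy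
  by_contra hg1
  exact hab.symm (eq_of_fix h hga hg1 hb)

theorem isZassenhaus (hperf : commutator G = ⊤) (hp3 : 3 < p) {z : G} (h : SC p z)
    (hn : Nat.card (Sylow p G) = 1 + p) (hG : 2 * Nat.card G = (p + 1) * p * (p - 1)) :
    Cfsg.IsZassenhausGroup G (Sylow p G) := by
  classical
  have hp : p.Prime := Fact.out
  have : Fintype (Sylow p G) := Fintype.ofFinite _
  have hcardΩ : Fintype.card (Sylow p G) = 1 + p := by rw [← Nat.card_eq_fintype_card, hn]
  obtain ⟨a₀, b₀, c₀, hab₀, hac₀, hbc₀⟩ :=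
    Fintype.two_lt_card_iff.mp (show 2 < Fintype.card (Sylow p G) by omega)
  refine ⟨⟨?_⟩, ?_, ?_, ?_, ?_⟩
  · intro g g' hgg
    have hfix : ∀ a : Sylow p G, (g'⁻¹ * g) • a = a := by
      intro a
      rw [mul_smul, hgg a, inv_smul_smul]
    have := three_pt h hn _ a₀ b₀ c₀ hab₀ hbc₀ hac₀ (hfix _) (hfix _) (hfix _)
    rw [inv_mul_eq_one] at this
    exact this.symm
  · rw [MulAction.is_two_pretransitive_iff]
    intro a b c d hab hcd
    obtain ⟨g, hg⟩ := MulAction.exists_smul_eq G a c
    have h1 : g • b ≠ c := by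
      intro hh
      rw [← hg] at hh
      exact hab (smul_left_cancel _ hh).symm
    obtain ⟨u, hu, hud⟩ := exists_smul h hn h1 hcd.symm
    refine ⟨u * g, ?_, ?_⟩
    · rw [mul_smul, hg, smul_self hu]
    · rw [mul_smul, hud]
  · exact fun g a b c hab hbc hac ha hb hc => three_pt h hn g a b c hab hbc hac ha hb hc
  · -- an element fixing two points
    have hidx : (normalizer ((a₀ : Subgroup G) : Set G)).index = 1 + p := by
      have := Sylow.card_eq_index_normalizer a₀
      rw [hn] at this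
      exact this.symm
    have hcN := (normalizer ((a₀ : Subgroup G) : Set G)).card_mul_index
    rw [hidx] at hcN
    have hcN2 : 2 * Nat.card (normalizer ((a₀ : Subgroup G) : Set G)) = p * (p - 1) := by
      have h1 : (1 + p) * (2 * Nat.card (normalizer ((a₀ : Subgroup G) : Set G)))
          = (1 + p) * (p * (p - 1)) := by
        calc (1 + p) * (2 * Nat.card (normalizer ((a₀ : Subgroup G) : Set G)))
            = 2 * (Nat.card (normalizer ((a₀ : Subgroup G) : Set G)) * (1 + p)) := by ring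
          _ = 2 * Nat.card G := by rw [hcN]
          _ = (1 + p) * (p * (p - 1)) := by rw [hG]; ring
      exact Nat.eq_of_mul_eq_mul_left (by omega) h1
    have hex : ∃ g ∈ normalizer ((a₀ : Subgroup G) : Set G), g ∉ (a₀ : Subgroup G) := by
      by_contra hcon
      push Not at hcon
      have h1 : Nat.card (normalizer ((a₀ : Subgroup G) : Set G)) ≤ Nat.card (a₀ : Subgroup G) :=
        Subgroup.card_le_of_le hcon
      rw [card_sylow_eq h a₀] at h1
      have h2 : p * 3 ≤ p * (p - 1) := Nat.mul_le_mul_left p (by omega)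
      have h3 : 0 < p := hp.pos
      omega
    obtain ⟨g, hgN, hga⟩ := hex
    have hga₀ : g • a₀ = a₀ := Sylow.smul_eq_iff_mem_normalizer.mpr hgN
    have h1 : g • b₀ ≠ a₀ := by
      intro hh
      rw [← hga₀] at hh
      exact hab₀ (smul_left_cancel _ hh).symm
    obtain ⟨u, hu, hub⟩ := exists_smul h hn h1 hab₀.symm
    refine ⟨u * g, ?_, a₀, b₀, hab₀, ?_, ?_⟩
    · intro hh
      apply hga
      have : g = u⁻¹ := eq_inv_of_mul_eq_one_right hh
      rw [this]
      exact inv_mem hu
    · rw [mul_smul, hga₀, smul_self hu]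
    · rw [mul_smul, hub]
  · -- no regular normal subgroup
    intro N hN htr
    by_contra hcon
    push Not at hcon
    have hcardN : Nat.card N ≤ 1 + p := by
      rw [← hn]
      apply Nat.card_le_card_of_injective (fun n : N => n • a₀)
      intro n n' hnn
      have h1 : (n'⁻¹ * n) ∈ MulAction.stabilizer N a₀ := by
        rw [MulAction.mem_stabilizer_iff, mul_smul]
        show n'⁻¹ • (n • a₀) = a₀
        have h2 : n • a₀ = n' • a₀ := hnn
        rw [h2, inv_smul_smul]
      rw [hcon a₀, mem_bot, inv_mul_eq_one] at h1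
      exact h1.symm
    have hle : normalClosure ((a₀ : Subgroup G) : Set G) ≤ N ⊔ (a₀ : Subgroup G) := by
      rw [normalClosure, closure_le]
      intro x hx
      obtain ⟨y, hy, hyx⟩ := Group.mem_conjugatesOfSet_iff.mp hx
      obtain ⟨g, rfl⟩ := isConj_iff.mp hyx
      obtain ⟨n, hn'⟩ := MulAction.exists_smul_eq N a₀ (g • a₀)
      have h1 : g * y * g⁻¹ ∈ ((g • a₀ : Sylow p G) : Subgroup G) := by
        rw [Sylow.coe_subgroup_smul]
        have := Subgroup.smul_mem_pointwise_smul y (MulAut.conj g) (a₀ : Subgroup G) hy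
        simpa [MulAut.smul_def] using this
      rw [← hn'] at h1
      have h2 : ((n • a₀ : Sylow p G) : Subgroup G) = MulAut.conj (n : G) • (a₀ : Subgroup G) :=
        Sylow.coe_subgroup_smul
      rw [h2, Subgroup.mem_pointwise_smul_iff_inv_smul_mem] at h1
      have h3 : (n : G)⁻¹ * (g * y * g⁻¹) * (n : G) ∈ (a₀ : Subgroup G) := by
        simpa [MulAut.smul_def, mul_assoc] using h1
      have h4 : g * y * g⁻¹ = (n : G) * ((n : G)⁻¹ * (g * y * g⁻¹) * (n : G)) * (n : G)⁻¹ := by
        group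
      show g * y * g⁻¹ ∈ N ⊔ (a₀ : Subgroup G)
      rw [h4]
      exact mul_mem (mul_mem (mem_sup_left n.2) (mem_sup_right h3)) (inv_mem (mem_sup_left n.2))
    have hdvd : p ∣ Nat.card (normalClosure ((a₀ : Subgroup G) : Set G)) := by
      have := Subgroup.card_dvd_of_le (le_normalClosure (H := (a₀ : Subgroup G)))
      rwa [card_sylow_eq h a₀] at this
    have htop := sc_commutator_le hp h.1 h.2 _ hdvd
    rw [hperf, top_le_iff] at htop
    rw [htop, top_le_iff] at hle
    have h5 := Cfsg.Agent.Lib.Helper14.card_sup_dvd_of_normal (a₀ : Subgroup G) N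
    rw [sup_comm, hle, card_top, card_sylow_eq h a₀] at h5
    have h6 : Nat.card G ≤ p * Nat.card N :=
      Nat.le_of_dvd (Nat.mul_pos hp.pos Nat.card_pos) h5
    have h7 : p * Nat.card N ≤ p * (1 + p) := Nat.mul_le_mul_left p hcardN
    have h8 : (p + 1) * p * 3 ≤ (p + 1) * p * (p - 1) := Nat.mul_le_mul_left _ (by omega)
    have h9 : 0 < (p + 1) * p := Nat.mul_pos (by omega) hp.pos
    have h10 : p * (1 + p) = (p + 1) * p := by ring
    omega

end

/-- RUNG Z -/
theorem recog_n_one {G : Type*} [Group G] [Finite G] (hperf : commutator G = ⊤) (p : ℕ)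
    [Fact p.Prime] (hp : 3 < p) (z : G) (hz : orderOf z = p)
    (hC : Subgroup.centralizer ({z} : Set G) = Subgroup.zpowers z)
    (hn : Nat.card (Sylow p G) = 1 + p) (hG : 2 * Nat.card G = (p + 1) * p * (p - 1)) :
    ∃ (F : Type) (_ : Field F) (_ : Fintype F), Fintype.card F = p ∧ 3 < p ∧
      Nonempty (G ≃* Matrix.ProjectiveSpecialLinearGroup (Fin 2) F) := by
  classical
  have hpp : p.Prime := Fact.out
  have h : SC p z := ⟨hz, hC⟩
  have hZ := isZassenhaus hperf hp h hn hG
  obtain ⟨P, hP⟩ := sc_exists_sylow hpp hz hC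
  have hFle : (P : Subgroup G) ≤ MulAction.stabilizer G P := by
    rw [Sylow.stabilizer_eq_normalizer]; exact le_normalizer
  have hFn : ((P : Subgroup G).subgroupOf (MulAction.stabilizer G P)).Normal := by
    rw [Sylow.stabilizer_eq_normalizer]
    exact Subgroup.normal_in_normalizer
  have hFab : IsMulCommutative (P : Subgroup G) := by
    rw [hP]
    exact ⟨⟨fun a b => by
      obtain ⟨a, ha⟩ := a
      obtain ⟨b, hb⟩ := b
      obtain ⟨i, rfl⟩ := mem_zpowers_iff.mp ha
      obtain ⟨j, rfl⟩ := mem_zpowers_iff.mp hb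
      apply Subtype.ext
      show z ^ i * z ^ j = z ^ j * z ^ i
      rw [← zpow_add, ← zpow_add, add_comm]⟩⟩
  have hreg : ∀ y w : Sylow p G, y ≠ P → w ≠ P → ∃! u : (P : Subgroup G), (u : G) • y = w := by
    intro y w hy hw
    obtain ⟨u, hu, huy⟩ := exists_smul h hn hy hw
    refine ⟨⟨u, hu⟩, huy, ?_⟩
    intro v hv
    exact Subtype.ext (smul_inj h hy v.2 hu (hv.trans huy.symm))
  rcases Cfsg.Agent.S0731.result hZ P (P : Subgroup G) hFle hFn hFab hreg with h3 | h3
  · exfalso
    obtain ⟨h3t, -⟩ := h3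
    have : Fintype (Sylow p G) := Fintype.ofFinite _
    have hcardΩ : Fintype.card (Sylow p G) = 1 + p := by rw [← Nat.card_eq_fintype_card, hn]
    obtain ⟨t₀⟩ : Nonempty (Fin 3 ↪ Sylow p G) :=
      Function.Embedding.nonempty_of_card_le (by rw [Fintype.card_fin, hcardΩ]; omega)
    have hsurj : Function.Surjective (fun g : G => g • t₀) := fun t =>
      MulAction.exists_smul_eq G t₀ t
    have h4 := Nat.card_le_card_of_surjective _ hsurj
    rw [Nat.card_eq_fintype_card, Fintype.card_embedding_eq, Fintype.card_fin, hcardΩ] at h4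
    have h5 : (1 + p).descFactorial 3 = (p + 1) * p * (p - 1) := by
      obtain ⟨k, hk⟩ : ∃ k, p = k + 2 := ⟨p - 2, by omega⟩
      simp only [Nat.descFactorial_succ, Nat.descFactorial_zero]
      have e1 : 1 + p - 2 = k + 1 := by omega
      have e2 : 1 + p - 1 = k + 2 := by omega
      have e3 : 1 + p - 0 = k + 3 := by omega
      have e4 : p - 1 = k + 1 := by omega
      rw [e1, e2, e3, e4, hk]
      ring
    have h6 : 0 < Nat.card G := Nat.card_pos
    omega
  · obtain ⟨K, iK, iKf, hch, ⟨e⟩⟩ := h3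
    have h2 : (2 : K) ≠ 0 := by
      intro h0
      apply hch
      have h1 : ringChar K ∣ 2 := ringChar.dvd (by exact_mod_cast h0)
      rcases (Nat.dvd_prime Nat.prime_two).mp h1 with h | h
      · exact absurd h (CharP.ringChar_ne_one)
      · exact h
    have hc := Cfsg.Agent.Lib.Helper7.card_PSL2 (F := K) h2
    rw [← Nat.card_congr e.toEquiv] at hc
    have hq : Fintype.card K = p := by
      have hq1 : 1 < Fintype.card K := Fintype.one_lt_card
      obtain ⟨a, ha⟩ : ∃ a, Fintype.card K = a + 1 := ⟨Fintype.card K - 1, by omega⟩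
      obtain ⟨b, hb⟩ : ∃ b, p = b + 1 := ⟨p - 1, by omega⟩
      have e1 : (a + 1) ^ 2 - 1 = a * (a + 2) := by
        apply Nat.sub_eq_of_eq_add
        ring
      have e2 : p - 1 = b := by omega
      rw [ha, e1] at hc
      rw [e2, hb] at hG
      have hkey : (a + 1) * (a * (a + 2)) = (b + 1) * (b * (b + 2)) := by
        rw [← hc, mul_comm (Nat.card G) 2, hG]; ring
      have hmono : ∀ u v : ℕ, u < v → (u + 1) * (u * (u + 2)) < (v + 1) * (v * (v + 2)) := by
        intro u v huv
        have hle : u ≤ v := huv.le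
        calc (u + 1) * (u * (u + 2)) ≤ (u + 1) * (v * (v + 2)) := by gcongr
          _ < (v + 1) * (v * (v + 2)) := by
            apply Nat.mul_lt_mul_of_pos_right (by omega)
            exact Nat.mul_pos (by omega) (by omega)
      rcases lt_trichotomy a b with hlt | heq | hgt
      · exact absurd hkey (hmono a b hlt).ne
      · rw [ha, hb, heq]
      · exact absurd hkey (hmono b a hgt).ne'
    exact ⟨K, iK, iKf, hq, hp, ⟨e⟩⟩

end Cfsg.Agent.Lib.Helper41.BR
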