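import Cfsg.Agent.Lib.Helper41.KS18HQ
import Cfsg.Agent.Lib.Helper53.Basic
import Cfsg.Agent.Lib.Helper56.JC3X0

set_option autoImplicit false
set_option linter.unusedVariables false

/-! Ladder KS18, rung W4 (helper41). -/

namespace Cfsg.Agent.Lib.Helper41.KS18

open Cfsg Subgroup
open Cfsg.Agent.Lib.Helper53.KS18
open Cfsg.Agent.Lib.Helper53.JC (cjj QQ)

variable {G : Type*} [Group G] [Finite G]

theorem w4 {P T : Subgroup G} (syl : IsSylowTwoIn T P) (h6 : (pCoreOf 2 P).relIndex P = 6)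
    (hchar : P ⊓ centralizer (pCoreOf 2 P : Set G) ≤ pCoreOf 2 P) (e : ∀ g ∈ QQ P, g * g = 1) :
    2 < Nat.card ↥(HH G ⊓ QQ P) := by
  classical
  by_contra hcon
  have hQP : QQ P ≤ P := Cfsg.Agent.Lib.Helper53.pCoreOf_le 2 P
  have hQ2 : IsPGroup 2 (QQ P) := Cfsg.Agent.Lib.Helper53.pCoreOf_isPGroup 2 P
  have hPN : P ≤ normalizer (QQ P : Set G) := Cfsg.Agent.Lib.Helper53.le_normalizer_pCoreOf 2 P
  have hHn : (HH G).Normal := hh_normal
  have h3 : 3 ∣ Nat.card P := by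
    have h1 : (QQ P).relIndex P ∣ Nat.card P := Subgroup.relIndex_dvd_card _ _
    have h2 : (QQ P).relIndex P = 6 := h6
    rw [h2] at h1
    exact Dvd.dvd.trans (by norm_num) h1
  have : Fact (Nat.Prime 3) := ⟨Nat.prime_three⟩
  obtain ⟨d, hd⟩ := exists_prime_orderOf_dvd_card' 3 h3
  have hd3 : orderOf (d : G) = 3 := by rw [Subgroup.orderOf_coe, hd]
  have hodd : Odd (orderOf (d : G)) := by rw [hd3]; decide
  have hdH : (d : G) ∈ HH G := hh_odd hodd
  have hconjQ : ∀ q ∈ QQ P, (d : G) * q * (d : G)⁻¹ ∈ QQ P := fun q hq =>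
    (mem_normalizer_iff.1 (hPN d.2) q).1 hq
  have hc : ∀ w ∈ HH G ⊓ QQ P, (d : G) * w = w * (d : G) := by
    intro w hw
    by_contra hne
    apply hcon
    have hw' : (d : G) * w * (d : G)⁻¹ ∈ HH G ⊓ QQ P :=
      mem_inf.2 ⟨hHn.conj_mem w (mem_inf.1 hw).1 d, hconjQ w (mem_inf.1 hw).2⟩
    have : Fintype ↥(HH G ⊓ QQ P) := Fintype.ofFinite _
    rw [Nat.card_eq_fintype_card, Fintype.two_lt_card_iff]
    refine ⟨1, ⟨w, hw⟩, ⟨_, hw'⟩, ?_, ?_, ?_⟩
    · intro h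
      have h1 : (1 : G) = w := congrArg Subtype.val h
      apply hne
      rw [← h1, mul_one, one_mul]
    · intro h
      have h1 : (1 : G) = (d : G) * w * (d : G)⁻¹ := congrArg Subtype.val h
      apply hne
      have h2 : w = 1 := by
        have : w = (d : G)⁻¹ * ((d : G) * w * (d : G)⁻¹) * (d : G) := by group
        rw [this, ← h1]
        group
      rw [h2, mul_one, one_mul]
    · intro h
      have h1 : w = (d : G) * w * (d : G)⁻¹ := congrArg Subtype.val h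
      apply hne
      calc (d : G) * w = ((d : G) * w * (d : G)⁻¹) * (d : G) := by group
        _ = w * (d : G) := by rw [← h1]
  have hstab : ∀ a ∈ QQ P, (d : G) * a * (d : G)⁻¹ * a⁻¹ ∈ HH G ⊓ QQ P := by
    intro a ha
    refine mem_inf.2 ⟨?_, mul_mem (hconjQ a ha) (inv_mem ha)⟩
    have h1 : a * (d : G)⁻¹ * a⁻¹ ∈ HH G := hHn.conj_mem _ (inv_mem hdH) a
    have h2 : (d : G) * a * (d : G)⁻¹ * a⁻¹ = (d : G) * (a * (d : G)⁻¹ * a⁻¹) := by group
    rw [h2]
    exact mul_mem hdH h1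
  have hcent := Cfsg.Agent.Lib.Helper56.JC3.x0_stab hodd (A := QQ P) (D := HH G ⊓ QQ P)
    (hQ2.to_le inf_le_right) hc hstab
  have hdQ : (d : G) ∈ QQ P := by
    apply hchar
    refine mem_inf.2 ⟨d.2, ?_⟩
    rw [mem_centralizer_iff]
    intro q hq
    exact (hcent q hq).symm
  have hd1 := Cfsg.Agent.Lib.Helper56.JC3.x0_eq_one_of_odd hQ2 hdQ hodd
  rw [hd1, orderOf_one] at hd3
  exact absurd hd3 (by norm_num)

end Cfsg.Agent.Lib.Helper41.KS18
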