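import Mathlib
import Cfsg.Agent.Lib.Helper99.SP8.Defs
import Cfsg.Agent.Lib.Helper99.PGB.Defs
import Cfsg.Agent.Lib.Helper18.OrthRefl
import Cfsg.Agent.Lib.Helper49.HypPairs

set_option autoImplicit false

universe u

/-! Ladder SP8, rung OAR (helper41). -/

namespace Cfsg.Agent.Lib.Helper41.SP8

open Module LinearMap QuadraticMap Cfsg.Agent.Lib.Helper48 Cfsg.Agent.Lib.Helper17
  Cfsg.Agent.Lib.Helper99.SP8 Cfsg.Agent.Lib.Helper99.PGB Cfsg.Agent.Lib.Helper18
  Cfsg.Agent.Lib.Helper49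

/-- the linear map of an isometry -/
def oarT {ι : Type} [Fintype ι] [DecidableEq ι] {F : Type*} [Field F] (Q : (ι → F) → F) :
    ↥(Cfsg.isometryGroup F Q) →* End F (ι → F) where
  toFun g := Matrix.mulVecLin (mat g)
  map_one' := by
    apply LinearMap.ext
    intro x
    simp [mat]
  map_mul' g h := by
    apply LinearMap.ext
    intro x
    simp [mat, Matrix.mulVec_mulVec]

theorem oarT_apply {ι : Type} [Fintype ι] [DecidableEq ι] {F : Type*} [Field F] (Q : (ι → F) → F)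
    (g : ↥(Cfsg.isometryGroup F Q)) (x : ι → F) : oarT Q g x = act g x := rfl

theorem oarT_eq_one {ι : Type} [Fintype ι] [DecidableEq ι] {F : Type*} [Field F] (Q : (ι → F) → F)
    (g : ↥(Cfsg.isometryGroup F Q)) : oarT Q g = 1 ↔ g = 1 := by
  constructor
  · intro h
    apply ext_act
    intro x
    rw [← oarT_apply, h, act_one]
    rfl
  · rintro rfl
    exact map_one _

theorem oar_a_ne {F : Type*} [Field F] [Fintype F] [CharP F 2] (a b : F)
    (han : ∀ z₁ z₂ : F, z₁ ^ 2 + a * z₁ * z₂ + b * z₂ ^ 2 = 0 → z₁ = 0 ∧ z₂ = 0) : a ≠ 0 := by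
  rintro rfl
  obtain ⟨c, hc⟩ := FiniteField.isSquare_of_char_two (ringChar.eq F 2) b
  have h1 := han c 1 (by
    rw [hc]
    have : c ^ 2 + 0 * c * 1 + c * c * 1 ^ 2 = c * c + c * c := by ring
    rw [this]
    exact CharTwo.add_self_eq_zero _)
  exact one_ne_zero h1.2

/-- OAR -/
theorem iso_to_AR {F : Type u} [Field F] [Fintype F] [CharP F 2] (a b : F)
    (han : ∀ z₁ z₂ : F, z₁ ^ 2 + a * z₁ * z₂ + b * z₂ ^ 2 = 0 → z₁ = 0 ∧ z₂ = 0)
    (g : ↥(Cfsg.isometryGroup F (Cfsg.quadFormMinus 3 F a b))) : AR F 8 (orderOf g) := by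
  have ha : a ≠ 0 := oar_a_ne a b han
  have h4 : (4 : F) = 0 := by
    have h2 : (2 : F) = 0 := CharTwo.two_eq_zero
    have : (4 : F) = 2 * 2 := by norm_num
    rw [this, h2, zero_mul]
  have hnd : (polarBilin (minusQF 3 F a b)).Nondegenerate := by
    apply minusQF_nondegenerate
    rw [h4, zero_mul, zero_sub]
    exact neg_ne_zero.2 (pow_ne_zero 2 ha)
  have hBp : ∀ x y, polarBilin (minusQF 3 F a b) x y =
      polar (Cfsg.quadFormMinus 3 F a b) x y := by
    intro x y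
    rw [← minusQF_coe]
    rfl
  refine ⟨((Fin 3 ⊕ Fin 3) ⊕ Fin 2 → F), inferInstance, inferInstance, inferInstance,
    polarBilin (minusQF 3 F a b), oarT _ g, ?_, ?_, hnd.1, ?_, ?_⟩
  · rw [Module.finrank_fintype_fun_eq_card]
    rfl
  · intro x
    have h1 : polarBilin (minusQF 3 F a b) x x = 2 • (minusQF 3 F a b) x := by
      show polar (minusQF 3 F a b) x x = _
      rw [polar_self]
    rw [h1, two_smul]
    exact CharTwo.add_self_eq_zero _
  · intro x y
    rw [hBp, hBp, oarT_apply, oarT_apply, polar_act]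
  · intro j
    rw [← map_pow, oarT_eq_one, orderOf_dvd_iff_pow_eq_one]

end Cfsg.Agent.Lib.Helper41.SP8
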