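import Mathlib
import Cfsg.Agent.Lib.Helper99.SP8.Defs
import Cfsg.Agent.Lib.Helper99.PGB.Defs
import Cfsg.Agent.Lib.Helper48.SpSpec

set_option autoImplicit false

universe u

/-! Ladder SP8, rung PFWD (helper41). -/

namespace Cfsg.Agent.Lib.Helper41.SP8

open Module LinearMap QuadraticMap Cfsg.Agent.Lib.Helper48 Cfsg.Agent.Lib.Helper17
  Cfsg.Agent.Lib.Helper99.SP8 Cfsg.Agent.Lib.Helper99.PGB

theorem pfwd_neg_one {F V : Type*} [Field F] [CharP F 2] [AddCommGroup V] [Module F V] :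
    (-1 : End F V) = 1 := by
  apply LinearMap.ext
  intro v
  have h2 : (2 : F) = 0 := CharTwo.two_eq_zero
  have h3 : v + v = 0 := by
    rw [← two_smul F v, h2, zero_smul]
  simp only [LinearMap.neg_apply, Module.End.one_apply]
  exact neg_eq_of_add_eq_zero_left h3

/-- PFWD -/
theorem psp_fwd {F : Type*} [Field F] [Fintype F] [CharP F 2] {n : ℕ} (y : Cfsg.PSp n F) :
    ∃ T : End F (Fin n ⊕ Fin n → F), IsoB (sympB n F) T ∧ ∀ j, T ^ j = 1 ↔ orderOf y ∣ j := by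
  obtain ⟨A, rfl⟩ := QuotientGroup.mk_surjective y
  refine ⟨_, isoB_mulVecLin A, ?_⟩
  intro j
  rw [orderOf_mk_sp_dvd_iff, (sp_pow_iff A j).1, (sp_pow_iff A j).2, pfwd_neg_one, or_self]

end Cfsg.Agent.Lib.Helper41.SP8
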