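import Mathlib

set_option autoImplicit false
set_option linter.style.haveILetI false

/-! Rung TR of the ladder SHARP3-EVEN: translation of a regular conjugation action on an elementary
abelian subgroup into a regular linear group. -/

namespace Cfsg.Agent.Lib.Helper41

/-- the statement of rung NF -/
def NFStmt.{u} (p : ℕ) [Fact p.Prime] : Prop :=
  ∀ {V : Type u} [AddCommGroup V] [Module (ZMod p) V] [Finite V] [Nontrivial V]
    (H : Subgroup (V ≃ₗ[ZMod p] V))
    (_ : ∀ v w : V, v ≠ 0 → w ≠ 0 → ∃! h : H, (h : V ≃ₗ[ZMod p] V) v = w)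
    (_ : ∀ α β : H, α ≠ 1 → α ^ 3 = 1 → β ≠ 1 → β ^ 3 = 1 → β = α ∨ β = α⁻¹),
    ∃ N : Subgroup H, N.index = 2

universe u

/-- multiplicative automorphisms as linear automorphisms of the additive version -/
def linOfMulAut (p : ℕ) (H : Type*) [CommGroup H] [Module (ZMod p) (Additive H)] :
    MulAut H →* (Additive H ≃ₗ[ZMod p] Additive H) where
  toFun f :=
    { toFun := fun v => Additive.ofMul (f (Additive.toMul v))
      invFun := fun v => Additive.ofMul (f.symm (Additive.toMul v))
      left_inv := fun v => by simp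
      right_inv := fun v => by simp
      map_add' := fun v w => by simp
      map_smul' := fun r v => ZMod.map_smul (MulEquiv.toAdditive f).toAddMonoidHom r v }
  map_one' := rfl
  map_mul' _ _ := rfl

theorem exists_index_two_of_regular_aut {E : Type*} {A : Type u} [Group E] [CommGroup A] [Finite A]
    [Nontrivial A] (p : ℕ) [Fact p.Prime] [Module (ZMod p) (Additive A)] (hNF : NFStmt.{u} p)
    (cm : E →* MulAut A) (hreg : ∀ u v : A, u ≠ 1 → v ≠ 1 → ∃! x : E, cm x u = v)
    (h3 : ∀ α β : E, α ≠ 1 → α ^ 3 = 1 → β ≠ 1 → β ^ 3 = 1 → β = α ∨ β = α⁻¹) :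
    ∃ N : Subgroup E, N.index = 2 := by
  classical
  haveI : Nontrivial (Additive A) := inferInstanceAs (Nontrivial A)
  haveI : Finite (Additive A) := inferInstanceAs (Finite A)
  let c : E →* (Additive A ≃ₗ[ZMod p] Additive A) := (linOfMulAut p A).comp cm
  have hc : ∀ (x : E) (v : Additive A), c x v = Additive.ofMul (cm x (Additive.toMul v)) :=
    fun _ _ => rfl
  obtain ⟨u₀, hu₀⟩ : ∃ u : A, u ≠ 1 := exists_ne 1
  have hcinj : Function.Injective c := by
    intro x y hxy
    have h1 : c x (Additive.ofMul u₀) = c y (Additive.ofMul u₀) := by rw [hxy]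
    rw [hc, hc] at h1
    have h2 : cm x u₀ = cm y u₀ := Additive.ofMul.injective h1
    have hne : cm y u₀ ≠ 1 := by
      intro h
      apply hu₀
      exact (cm y).injective (by rw [h, map_one])
    obtain ⟨z, _, hz⟩ := hreg u₀ _ hu₀ hne
    rw [hz x h2, hz y rfl]
  let e : E ≃* c.range := MonoidHom.ofInjective hcinj
  obtain ⟨N, hN⟩ := hNF c.range (by
    intro v w hv hw
    have hv' : Additive.toMul v ≠ 1 := fun h => hv (congrArg Additive.ofMul h)
    have hw' : Additive.toMul w ≠ 1 := fun h => hw (congrArg Additive.ofMul h)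
    obtain ⟨x, hx, hxu⟩ := hreg _ _ hv' hw'
    refine ⟨e x, ?_, ?_⟩
    · change c x v = w
      rw [hc, hx]
      rfl
    · intro h hh
      obtain ⟨y, rfl⟩ := e.surjective h
      have h1 : c y v = w := hh
      rw [hc] at h1
      have h2 : cm y (Additive.toMul v) = Additive.toMul w := Additive.ofMul.injective h1
      rw [hxu y h2]) (by
    intro α β hα hα3 hβ hβ3
    obtain ⟨a, rfl⟩ := e.surjective α
    obtain ⟨b, rfl⟩ := e.surjective β
    have ha : a ≠ 1 := fun h => hα (by rw [h, map_one])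
    have hb : b ≠ 1 := fun h => hβ (by rw [h, map_one])
    have ha3 : a ^ 3 = 1 := e.injective (by rw [map_pow, hα3, map_one])
    have hb3 : b ^ 3 = 1 := e.injective (by rw [map_pow, hβ3, map_one])
    rcases h3 a b ha ha3 hb hb3 with h | h
    · left; rw [h]
    · right; rw [h, map_inv])
  refine ⟨N.comap e.toMonoidHom, ?_⟩
  rw [Subgroup.index_comap_of_surjective N (f := e.toMonoidHom) e.surjective, hN]

theorem exists_relIndex_two_of_regular_conj_of {G : Type u} [Group G] [Finite G] (H E : Subgroup G)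
    (p : ℕ) [Fact p.Prime] (hNF : NFStmt.{u} p) (hH1 : H ≠ ⊥)
    (hHc : ∀ u ∈ H, ∀ v ∈ H, u * v = v * u) (hHp : ∀ u ∈ H, u ^ p = 1)
    (hnorm : ∀ x ∈ E, ∀ u ∈ H, x * u * x⁻¹ ∈ H)
    (hreg : ∀ u ∈ H, ∀ v ∈ H, u ≠ 1 → v ≠ 1 → ∃! x : E, (x : G) * u * (x : G)⁻¹ = v)
    (h3 : ∀ α ∈ E, ∀ β ∈ E, α ≠ 1 → α ^ 3 = 1 → β ≠ 1 → β ^ 3 = 1 → β = α ∨ β = α⁻¹) :
    ∃ N : Subgroup G, N ≤ E ∧ N.relIndex E = 2 := by
  classical
  letI instC : CommGroup H :=
    { (inferInstance : Group H) with
      mul_comm := fun a b => Subtype.ext (hHc a a.2 b b.2) }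
  haveI : Nontrivial H := (Subgroup.nontrivial_iff_ne_bot H).mpr hH1
  -- conjugation as a multiplicative automorphism of `H`
  let cm : E →* MulAut H :=
    { toFun := fun x =>
        { toFun := fun u => ⟨x * u * (x : G)⁻¹, hnorm x x.2 u u.2⟩
          invFun := fun u => ⟨(x : G)⁻¹ * u * x, by
            have := hnorm (x : G)⁻¹ (inv_mem x.2) u u.2
            simpa using this⟩
          left_inv := fun u => Subtype.ext (by simp [mul_assoc])
          right_inv := fun u => Subtype.ext (by simp [mul_assoc])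
          map_mul' := fun u v => Subtype.ext (by simp [mul_assoc]) }
      map_one' := by ext u; simp
      map_mul' := fun x y => by ext u; simp [mul_assoc] }
  have hcm : ∀ (x : E) (u : H), ((cm x u : H) : G) = x * u * (x : G)⁻¹ := fun _ _ => rfl
  letI instM : Module (ZMod p) (Additive H) := AddCommGroup.zmodModule (n := p) (by
    intro x
    have : (Additive.toMul x) ^ p = 1 := Subtype.ext (by simpa using hHp _ (Additive.toMul x).2)
    exact congrArg Additive.ofMul this)
  obtain ⟨N, hN⟩ := exists_index_two_of_regular_aut (E := E) (A := H) p hNF cm (by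
      intro u v hu hv
      have hu' : (u : G) ≠ 1 := fun h => hu (Subtype.ext h)
      have hv' : (v : G) ≠ 1 := fun h => hv (Subtype.ext h)
      obtain ⟨x, hx, hxu⟩ := hreg u u.2 v v.2 hu' hv'
      refine ⟨x, Subtype.ext hx, ?_⟩
      intro y hy
      exact hxu y (by change (y : G) * u * (y : G)⁻¹ = v; rw [← hcm, hy])) (by
      intro α β hα hα3 hβ hβ3
      have ha : (α : G) ≠ 1 := fun h => hα (Subtype.ext h)
      have hb : (β : G) ≠ 1 := fun h => hβ (Subtype.ext h)
      rcases h3 α α.2 β β.2 ha (congrArg Subtype.val hα3) hb (congrArg Subtype.val hβ3) with h | h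
      · exact Or.inl (Subtype.ext h)
      · exact Or.inr (Subtype.ext h))
  refine ⟨N.map E.subtype, Subgroup.map_subtype_le _, ?_⟩
  rw [Subgroup.relIndex, Subgroup.subgroupOf, Subgroup.comap_map_eq_self_of_injective E.subtype_injective, hN]

end Cfsg.Agent.Lib.Helper41
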